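import Mathlib.Data.List.GetD
import Mathlib.Data.Fin.Basic

/-!
# S4879, row `E₈`: the histograms of the parabolic subgroups on the three sets of `2240` points (helper416; tables: helper970)

`HE.. j c`, `HB.. j c` : for a parabolic subgroup `W_J`, the number of `s` in the position `c` with respect to the base
point of its `W_J`-orbit (base point = smallest number); `HS.. j c` : the same with signs, over the regular orbits.

* `HE` : types E6, E6A1 (`{0, 1, 2, 3, 4, 5}`, `{0, 1, 2, 3, 4, 5, 7}`);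
* `HB` : `JB` of `H656/LB/WX.lean` (A3+2A1, D4A1, A3A2, A3A2A1, D4A2);
* `HS` : signed, `JS` of `H656/LB/WX.lean` (∅, A1, A2, 3A1, A2+2A1).

For `JB` there are no regular orbits in the signed case.
-/

set_option autoImplicit false

namespace Cfsg.Agent.H416.LB.X

def HEN1L : List (List ℤ) := [
  [17, 321, 666, 153, 564, 390, 1, 128],
  [12, 222, 630, 144, 564, 498, 2, 168]]

def HEN1 (j : Fin 2) (c : Fin 8) : ℤ := (HEN1L.getD j []).getD c 0

def HBN1L : List (List ℤ) := [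
  [173, 717, 576, 171, 312, 192, 3, 96],
  [104, 678, 516, 150, 504, 204, 4, 80],
  [139, 675, 648, 153, 264, 288, 1, 72],
  [93, 495, 678, 177, 336, 306, 3, 152],
  [54, 426, 630, 144, 444, 402, 4, 136]]

def HBN1 (j : Fin 5) (c : Fin 8) : ℤ := (HBN1L.getD j []).getD c 0

def HSN1L : List (List ℤ) := [
  [2240, 0, 0, 0, 0, 0, 0, 0],
  [756, -756, 0, 0, 0, 0, 0, 0],
  [90, -270, 0, 0, 180, 0, 0, 0],
  [81, -243, 192, 51, -48, 0, -1, -32],
  [9, -45, 60, 21, 0, -36, -1, -8]]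

def HSN1 (j : Fin 5) (c : Fin 8) : ℤ := (HSN1L.getD j []).getD c 0

def HEN0L : List (List ℤ) := [
  [14, 276, 4, 198, 1056, 216, 348, 128],
  [8, 190, 6, 176, 1128, 292, 272, 168]]

def HEN0 (j : Fin 2) (c : Fin 8) : ℤ := (HEN0L.getD j []).getD c 0

def HBN0L : List (List ℤ) := [
  [144, 640, 32, 248, 768, 160, 152, 96],
  [88, 600, 20, 228, 720, 180, 324, 80],
  [116, 588, 24, 240, 936, 84, 180, 72],
  [71, 421, 25, 251, 984, 202, 134, 152],
  [41, 357, 17, 213, 1032, 210, 234, 136]]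

def HBN0 (j : Fin 5) (c : Fin 8) : ℤ := (HBN0L.getD j []).getD c 0

def HSN0L : List (List ℤ) := [
  [2240, 0, 0, 0, 0, 0, 0, 0],
  [784, -756, -28, 0, 0, 0, 0, 0],
  [118, -324, -28, 54, 0, 0, 180, 0],
  [84, -252, -4, 60, 192, -48, 0, -32],
  [10, -50, -2, 26, 24, -20, 20, -8]]

def HSN0 (j : Fin 5) (c : Fin 8) : ℤ := (HSN0L.getD j []).getD c 0

def HEN2L : List (List ℤ) := [
  [14, 342, 4, 132, 1056, 564, 128],
  [9, 237, 5, 129, 1128, 564, 168]]

def HEN2 (j : Fin 2) (c : Fin 7) : ℤ := (HEN2L.getD j []).getD c 0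

def HBN2L : List (List ℤ) := [
  [147, 777, 29, 111, 768, 312, 96],
  [91, 693, 17, 135, 720, 504, 80],
  [117, 723, 23, 105, 936, 264, 72],
  [74, 558, 22, 114, 984, 336, 152],
  [44, 450, 14, 120, 1032, 444, 136]]

def HBN2 (j : Fin 5) (c : Fin 7) : ℤ := (HBN2L.getD j []).getD c 0

def HSN2L : List (List ℤ) := [
  [2240, 0, 0, 0, 0, 0, 0],
  [784, -756, -28, 0, 0, 0, 0],
  [118, -324, -28, 54, 0, 180, 0],
  [83, -195, -3, 3, 192, -48, -32],
  [9, -27, -1, 3, 24, 0, -8]]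

def HSN2 (j : Fin 5) (c : Fin 7) : ℤ := (HSN2L.getD j []).getD c 0

end Cfsg.Agent.H416.LB.X
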