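import Cfsg.Agent.H416.LB.SolveX
import Cfsg.Agent.H416.LB.HistX
import Cfsg.Agent.H656.LB.WX

/-!
# S4879, row `E₈`: the multiplicities as histogram sums, `2240` points (helper416; tables: helper970 / helper656)

`deg · Σ H c * av c = 2240 · X`. `XE k = (⟨φ, 1_{E6}⟩, ⟨φ, 1_{E6A1}⟩)`; `ix k` : the index in `H656/LB/WX.lean`, for the `k` with
`XE k 0 ≠ 2 * XE k 1` (all but the character of degree `112`).
-/

set_option autoImplicit false
set_option maxRecDepth 20000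

namespace Cfsg.Agent.H416.LB.X

open Finset

/-! ### `N1` -/

def XEN1L : List (List ℕ) := [
  [1, 1],
  [3, 2],
  [3, 2],
  [1, 1],
  [1, 1],
  [3, 2],
  [1, 1],
  [4, 2]]

/-- the multiplicities in `1_{W(E6)}`, `1_{W(E6A1)}`; degrees 1, 35, 84, 300, 448, 560, 700, 112 -/
def XEN1 (k : Fin 8) (j : Fin 2) : ℕ := (XEN1L.getD k []).getD j 0

/-- the index in `WX` -/
def ixN1 : Fin 8 → Fin 11 := ![0, 1, 2, 3, 4, 5, 6, 0]

theorem XEN1_iff (k : Fin 8) : XEN1 k 0 = 2 * XEN1 k 1 ↔ dgN1 k = 112 := by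
  revert k
  decide +kernel

theorem ixN1_inj (k k' : Fin 8) (hk : dgN1 k ≠ 112) (hk' : dgN1 k' ≠ 112) (h : ixN1 k = ixN1 k') : k = k' := by
  revert k k'
  decide +kernel

theorem muEN1 (k : Fin 8) (j : Fin 2) :
    (dgN1 k : ℚ) * ∑ c, (HEN1 j c : ℚ) * avN1 k c = 2240 * (XEN1 k j : ℚ) := by
  have h : ∀ (k : Fin 8) (j : Fin 2), (dgN1 k : ℤ) * ((List.finRange 8).map fun c => HEN1 j c * AN1 k c).sum =
      2240 * 540 * (XEN1 k j : ℤ) := by decide +kernel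
  have h1 := sum_gen (N := 2240) (D := 540) (by norm_num) (h k j)
  unfold avN1
  exact_mod_cast h1

/-- **`JB`.** -/
theorem muBN1 (k : Fin 8) (hk : dgN1 k ≠ 112) (j : Fin 5) :
    (dgN1 k : ℚ) * ∑ c, (HBN1 j c : ℚ) * avN1 k c = 2240 * (H656.LB.XX (ixN1 k) j : ℚ) := by
  have h : ∀ (k : Fin 8) (j : Fin 5), dgN1 k ≠ 112 → (dgN1 k : ℤ) *
      ((List.finRange 8).map fun c => HBN1 j c * AN1 k c).sum = 2240 * 540 * H656.LB.XX (ixN1 k) j := by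
    decide +kernel
  have h1 := sum_gen (N := 2240) (D := 540) (by norm_num) (h k j hk)
  unfold avN1
  exact_mod_cast h1

/-- **signed, `JS`.** -/
theorem muSN1 (k : Fin 8) (hk : dgN1 k ≠ 112) (j : Fin 5) :
    (dgN1 k : ℚ) * ∑ c, (HSN1 j c : ℚ) * avN1 k c = 2240 * (H656.LB.YX (ixN1 k) j : ℚ) := by
  have h : ∀ (k : Fin 8) (j : Fin 5), dgN1 k ≠ 112 → (dgN1 k : ℤ) *
      ((List.finRange 8).map fun c => HSN1 j c * AN1 k c).sum = 2240 * 540 * H656.LB.YX (ixN1 k) j := by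
    decide +kernel
  have h1 := sum_gen (N := 2240) (D := 540) (by norm_num) (h k j hk)
  unfold avN1
  exact_mod_cast h1

/-! ### `N0` -/

def XEN0L : List (List ℕ) := [
  [1, 1],
  [3, 2],
  [3, 2],
  [1, 1],
  [1, 1],
  [1, 0],
  [1, 0],
  [3, 1]]

/-- the multiplicities in `1_{W(E6)}`, `1_{W(E6A1)}`; degrees 1, 35, 84, 300, 700, 28, 525, 567 -/
def XEN0 (k : Fin 8) (j : Fin 2) : ℕ := (XEN0L.getD k []).getD j 0

/-- the index in `WX` -/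
def ixN0 : Fin 8 → Fin 11 := ![0, 1, 2, 3, 6, 7, 8, 9]

theorem XEN0_iff (k : Fin 8) : XEN0 k 0 = 2 * XEN0 k 1 ↔ dgN0 k = 112 := by
  revert k
  decide +kernel

theorem ixN0_inj (k k' : Fin 8) (hk : dgN0 k ≠ 112) (hk' : dgN0 k' ≠ 112) (h : ixN0 k = ixN0 k') : k = k' := by
  revert k k'
  decide +kernel

theorem muEN0 (k : Fin 8) (j : Fin 2) :
    (dgN0 k : ℚ) * ∑ c, (HEN0 j c : ℚ) * avN0 k c = 2240 * (XEN0 k j : ℚ) := by
  have h : ∀ (k : Fin 8) (j : Fin 2), (dgN0 k : ℤ) * ((List.finRange 8).map fun c => HEN0 j c * AN0 k c).sum =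
      2240 * 810 * (XEN0 k j : ℤ) := by decide +kernel
  have h1 := sum_gen (N := 2240) (D := 810) (by norm_num) (h k j)
  unfold avN0
  exact_mod_cast h1

/-- **`JB`.** -/
theorem muBN0 (k : Fin 8) (hk : dgN0 k ≠ 112) (j : Fin 5) :
    (dgN0 k : ℚ) * ∑ c, (HBN0 j c : ℚ) * avN0 k c = 2240 * (H656.LB.XX (ixN0 k) j : ℚ) := by
  have h : ∀ (k : Fin 8) (j : Fin 5), dgN0 k ≠ 112 → (dgN0 k : ℤ) *
      ((List.finRange 8).map fun c => HBN0 j c * AN0 k c).sum = 2240 * 810 * H656.LB.XX (ixN0 k) j := by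
    decide +kernel
  have h1 := sum_gen (N := 2240) (D := 810) (by norm_num) (h k j hk)
  unfold avN0
  exact_mod_cast h1

/-- **signed, `JS`.** -/
theorem muSN0 (k : Fin 8) (hk : dgN0 k ≠ 112) (j : Fin 5) :
    (dgN0 k : ℚ) * ∑ c, (HSN0 j c : ℚ) * avN0 k c = 2240 * (H656.LB.YX (ixN0 k) j : ℚ) := by
  have h : ∀ (k : Fin 8) (j : Fin 5), dgN0 k ≠ 112 → (dgN0 k : ℤ) *
      ((List.finRange 8).map fun c => HSN0 j c * AN0 k c).sum = 2240 * 810 * H656.LB.YX (ixN0 k) j := by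
    decide +kernel
  have h1 := sum_gen (N := 2240) (D := 810) (by norm_num) (h k j hk)
  unfold avN0
  exact_mod_cast h1

/-! ### `N2` -/

def XEN2L : List (List ℕ) := [
  [1, 1],
  [3, 2],
  [3, 2],
  [1, 1],
  [1, 1],
  [1, 0],
  [4, 2]]

/-- the multiplicities in `1_{W(E6)}`, `1_{W(E6A1)}`; degrees 1, 35, 84, 300, 700, 1008, 112 -/
def XEN2 (k : Fin 7) (j : Fin 2) : ℕ := (XEN2L.getD k []).getD j 0

/-- the index in `WX` -/
def ixN2 : Fin 7 → Fin 11 := ![0, 1, 2, 3, 6, 10, 0]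

theorem XEN2_iff (k : Fin 7) : XEN2 k 0 = 2 * XEN2 k 1 ↔ dgN2 k = 112 := by
  revert k
  decide +kernel

theorem ixN2_inj (k k' : Fin 7) (hk : dgN2 k ≠ 112) (hk' : dgN2 k' ≠ 112) (h : ixN2 k = ixN2 k') : k = k' := by
  revert k k'
  decide +kernel

theorem muEN2 (k : Fin 7) (j : Fin 2) :
    (dgN2 k : ℚ) * ∑ c, (HEN2 j c : ℚ) * avN2 k c = 2240 * (XEN2 k j : ℚ) := by
  have h : ∀ (k : Fin 7) (j : Fin 2), (dgN2 k : ℤ) * ((List.finRange 7).map fun c => HEN2 j c * AN2 k c).sum =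
      2240 * 270 * (XEN2 k j : ℤ) := by decide +kernel
  have h1 := sum_gen (N := 2240) (D := 270) (by norm_num) (h k j)
  unfold avN2
  exact_mod_cast h1

/-- **`JB`.** -/
theorem muBN2 (k : Fin 7) (hk : dgN2 k ≠ 112) (j : Fin 5) :
    (dgN2 k : ℚ) * ∑ c, (HBN2 j c : ℚ) * avN2 k c = 2240 * (H656.LB.XX (ixN2 k) j : ℚ) := by
  have h : ∀ (k : Fin 7) (j : Fin 5), dgN2 k ≠ 112 → (dgN2 k : ℤ) *
      ((List.finRange 7).map fun c => HBN2 j c * AN2 k c).sum = 2240 * 270 * H656.LB.XX (ixN2 k) j := by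
    decide +kernel
  have h1 := sum_gen (N := 2240) (D := 270) (by norm_num) (h k j hk)
  unfold avN2
  exact_mod_cast h1

/-- **signed, `JS`.** -/
theorem muSN2 (k : Fin 7) (hk : dgN2 k ≠ 112) (j : Fin 5) :
    (dgN2 k : ℚ) * ∑ c, (HSN2 j c : ℚ) * avN2 k c = 2240 * (H656.LB.YX (ixN2 k) j : ℚ) := by
  have h : ∀ (k : Fin 7) (j : Fin 5), dgN2 k ≠ 112 → (dgN2 k : ℤ) *
      ((List.finRange 7).map fun c => HSN2 j c * AN2 k c).sum = 2240 * 270 * H656.LB.YX (ixN2 k) j := by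
    decide +kernel
  have h1 := sum_gen (N := 2240) (D := 270) (by norm_num) (h k j hk)
  unfold avN2
  exact_mod_cast h1

/-! ### the value at the class of `s₇` -/

theorem avN0_two (k : Fin 8) : avN0 k 2 = 1 ∨ (avN0 k 2 = -1 ∧ (ixN0 k = 7 ∨ ixN0 k = 8 ∨ ixN0 k = 9)) := by
  revert k
  decide +kernel

theorem avN2_two (k : Fin 7) : avN2 k 2 = 1 ∨ (avN2 k 2 = -1 ∧ (dgN2 k = 112 ∨ ixN2 k = 10)) := by
  revert k
  decide +kernel

theorem ixN1_le (k : Fin 8) : (ixN1 k : ℕ) ≤ 6 := by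
  revert k
  decide +kernel

end Cfsg.Agent.H416.LB.X
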