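import Mathlib.Data.List.GetD
import Mathlib.Data.Fin.Basic

/-!
# S4879, row `E₈`: the histograms of the parabolic subgroups, data (helper416; tables of helper348)

`HX.. x c` : for a parabolic subgroup `W_J`, the number of pairs (orbit of `W_J` with base point `s`, `s'` in the orbit) such
that `s'` is in the position `c` with respect to `s`; `HY..` : the same with signs, over the regular orbits.

* `HX10_6`, `HX10_7` : types A7, E6, A6A1, A4A2A1, D4A2, A4A1 on the `6720` points resp. the `240` roots;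
* `HX5_6`, `HX5_7` : types D4, A3+2A1, A3A2, A3A2A1, D4A2;
* `HY5_6`, `HY5_7` : signed, types ∅, A1, 2A1, A2, 3A1, A2+2A1, 4A1.
-/

set_option autoImplicit false

namespace Cfsg.Agent.H416.LB

/-- A7, E6, A6A1, A4A2A1, D4A2, A4A1, 6720 points -/
def HX10_6L : List (List ℤ) := [
  [23, 264, 378, 160, 622, 480, 480, 127, 1068, 2, 672, 38, 38, 436, 636, 62, 62, 312, 312, 73, 310, 78, 10, 52, 24, 1],
  [43, 516, 510, 240, 1176, 372, 372, 243, 1176, 2, 384, 48, 48, 264, 408, 78, 78, 156, 156, 105, 252, 18, 8, 48, 18, 1],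
  [44, 364, 388, 186, 656, 380, 380, 190, 1060, 4, 552, 38, 38, 368, 628, 62, 62, 284, 284, 100, 380, 124, 16, 78, 52, 2],
  [97, 484, 400, 234, 524, 272, 272, 265, 1072, 6, 552, 26, 26, 344, 544, 56, 56, 272, 272, 139, 464, 136, 32, 102, 70, 3],
  [132, 720, 510, 234, 762, 336, 336, 360, 1140, 8, 408, 24, 24, 324, 468, 66, 66, 120, 120, 120, 246, 66, 30, 66, 30, 4],
  [317, 1220, 512, 284, 864, 220, 220, 607, 1100, 2, 240, 20, 20, 144, 236, 74, 74, 76, 76, 139, 144, 8, 40, 68, 14, 1]]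

/-- A7, E6, A6A1, A4A2A1, D4A2, A4A1, 240 roots -/
def HX10_7L : List (List ℤ) := [
  [7, 80, 120, 32, 1],
  [13, 116, 90, 20, 1],
  [10, 82, 108, 38, 2],
  [15, 78, 102, 42, 3],
  [20, 106, 90, 22, 2],
  [36, 124, 66, 12, 2]]

/-- D4, A3+2A1, A3A2, A3A2A1, D4A2, 6720 points -/
def HX5_6L : List (List ℤ) := [
  [457, 1758, 384, 222, 1548, 0, 0, 843, 768, 2, 96, 30, 30, 108, 0, 102, 102, 0, 0, 99, 108, 0, 26, 30, 6, 1],
  [459, 1292, 512, 306, 592, 160, 160, 665, 1088, 6, 288, 10, 10, 172, 224, 52, 52, 64, 64, 161, 172, 32, 60, 90, 26, 3],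
  [367, 1220, 560, 290, 558, 280, 280, 607, 1208, 2, 216, 8, 8, 144, 296, 68, 68, 88, 88, 145, 90, 8, 50, 62, 8, 1],
  [231, 838, 502, 302, 490, 248, 248, 441, 1180, 6, 456, 12, 12, 256, 364, 54, 54, 176, 176, 165, 262, 58, 48, 98, 40, 3],
  [132, 720, 510, 234, 762, 336, 336, 360, 1140, 8, 408, 24, 24, 324, 468, 66, 66, 120, 120, 120, 246, 66, 30, 66, 30, 4]]

/-- D4, A3+2A1, A3A2, A3A2A1, D4A2, 240 roots -/
def HX5_7L : List (List ℤ) := [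
  [49, 152, 30, 8, 1],
  [43, 114, 66, 14, 3],
  [38, 118, 72, 10, 2],
  [27, 96, 90, 24, 3],
  [20, 106, 90, 22, 2]]

/-- signed; ∅, A1, 2A1, A2, 3A1, A2+2A1, 4A1, 6720 points -/
def HY5_6L : List (List ℤ) := [
  [6720, 0, 0, 0, 0, 0, 0, 0, 0, 0, 0, 0, 0, 0, 0, 0, 0, 0, 0, 0, 0, 0, 0, 0, 0, 0],
  [2324, -1512, 0, 0, 0, 0, 0, -756, 0, 0, 0, 0, 0, 0, 0, 0, 0, 0, 0, 0, 0, 0, -56, 0, 0, 0],
  [780, -1032, 192, 120, 0, 0, 0, -504, 384, 0, 0, 0, 0, 0, 0, 0, 0, 0, 0, 60, 0, 0, -24, 24, 0, 0],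
  [324, -594, 0, 0, 540, 0, 0, -324, 0, 0, 0, 0, 0, 0, 0, 54, 54, 0, 0, 0, 0, 0, -54, 0, 0, 0],
  [249, -498, 192, 108, -48, 0, 0, -243, 384, -2, -96, 0, 0, -48, 0, 0, 0, 0, 0, 51, -48, 0, -6, 12, -6, -1],
  [29, -96, 48, 40, 34, -36, -36, -47, 108, -2, -24, 2, 2, -20, -36, 2, 2, 12, 12, 19, -14, 0, -2, 4, 0, -1],
  [72, -192, 120, 48, -48, 0, 0, -96, 240, 0, -144, 0, 0, -48, 48, 0, 0, 0, 0, 24, -48, 24, 0, 0, 0, 0]]

/-- signed; ∅, A1, 2A1, A2, 3A1, A2+2A1, 4A1, 240 roots -/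
def HY5_7L : List (List ℤ) := [
  [240, 0, 0, 0, 0],
  [57, -56, 0, 0, -1],
  [12, -24, 12, 0, 0],
  [1, -2, 0, 2, -1],
  [2, -6, 6, -2, 0],
  [0, 0, 0, 0, 0],
  [0, 0, 0, 0, 0]]

def HX10_6 (j : Fin 6) (c : Fin 26) : ℤ := (HX10_6L.getD j []).getD c 0

def HX10_7 (j : Fin 6) (c : Fin 5) : ℤ := (HX10_7L.getD j []).getD c 0

def HX5_6 (j : Fin 5) (c : Fin 26) : ℤ := (HX5_6L.getD j []).getD c 0

def HX5_7 (j : Fin 5) (c : Fin 5) : ℤ := (HX5_7L.getD j []).getD c 0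

def HY5_6 (j : Fin 7) (c : Fin 26) : ℤ := (HY5_6L.getD j []).getD c 0

def HY5_7 (j : Fin 7) (c : Fin 5) : ℤ := (HY5_7L.getD j []).getD c 0

/-- the degrees -/
def dg6 (k : Fin 10) : ℕ := [1, 8, 160, 210, 300, 448, 567, 700, 1344, 1400].getD k 0

/-- the degrees -/
def dg7 (k : Fin 5) : ℕ := [1, 8, 35, 84, 112].getD k 0

/-- the index of `av6 k` in the list of helper656 -/
def ix6 (k : Fin 10) : Fin 13 := [0, 1, 5, 6, 7, 8, 9, 10, 11, 12].getD k 0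

/-- the index of `av7 k` in the list of helper656 -/
def ix7 (k : Fin 5) : Fin 13 := [0, 1, 2, 3, 4].getD k 0

end Cfsg.Agent.H416.LB
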