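import Mathlib.Data.Complex.Basic
import Mathlib.Algebra.BigOperators.Fin
import Mathlib.Algebra.Order.BigOperators.Ring.Finset
import Mathlib.Tactic.LinearCombination
import Mathlib.Tactic.FieldSimp

/-!
# S4879, row `E₈`: the multiplicative functions on the double cosets (helper416; tables: helper348)

`W(E₈)` on `6720` points (26 classes, numbering of `TabE8c`) and on the `240` roots (5 classes):
`K c x = #{s | cls s = c, cls (s · word e) = x}` for `e = 1, 9, 2` resp. `e = 1`; `solve6`, `solve7` : the functions `a`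
with `a 0 = 1` and `Σ K c x * a x = size c * a e * a c` are the ten `av6 k` resp. the five `av7 k`.
-/

set_option autoImplicit false
set_option maxRecDepth 20000

namespace Cfsg.Agent.H416.LB

open Finset

/-- table lookup -/
def tab (l : List (List ℤ)) (i j : ℕ) : ℤ := (l.getD i []).getD j 0

/-- table lookup -/
def tabN (l : List (List ℕ)) (i j : ℕ) : ℕ := (l.getD i []).getD j 0

def sz6L : List ℕ := [1, 54, 216, 54, 540, 432, 432, 27, 864, 2, 720, 54, 54, 540, 864, 54, 54, 432, 432, 27, 540, 216, 2, 54, 54, 1]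

def K61L : List (List ℕ) := [
  [0, 1, 0, 0, 0, 0, 0, 0, 0, 0, 0, 0, 0, 0, 0, 0, 0, 0, 0, 0, 0, 0, 0, 0, 0, 0],
  [1, 17, 16, 10, 10, 0, 0, 0, 0, 0, 0, 0, 0, 0, 0, 0, 0, 0, 0, 0, 0, 0, 0, 0, 0, 0],
  [0, 16, 80, 0, 80, 0, 40, 0, 0, 0, 0, 0, 0, 0, 0, 0, 0, 0, 0, 0, 0, 0, 0, 0, 0, 0],
  [0, 10, 0, 16, 10, 16, 0, 0, 0, 1, 0, 1, 0, 0, 0, 0, 0, 0, 0, 0, 0, 0, 0, 0, 0, 0],
  [0, 10, 80, 10, 170, 80, 80, 10, 80, 0, 0, 0, 10, 10, 0, 0, 0, 0, 0, 0, 0, 0, 0, 0, 0, 0],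
  [0, 0, 0, 16, 80, 160, 0, 0, 80, 0, 0, 16, 0, 80, 0, 0, 0, 0, 0, 0, 0, 0, 0, 0, 0, 0],
  [0, 0, 40, 0, 80, 0, 120, 0, 80, 0, 80, 0, 16, 0, 16, 0, 0, 0, 0, 0, 0, 0, 0, 0, 0, 0],
  [0, 0, 0, 0, 10, 0, 0, 0, 16, 0, 0, 0, 0, 0, 0, 0, 1, 0, 0, 0, 0, 0, 0, 0, 0, 0],
  [0, 0, 0, 0, 80, 80, 80, 16, 256, 0, 160, 0, 0, 80, 80, 0, 16, 0, 16, 0, 0, 0, 0, 0, 0, 0],
  [0, 0, 0, 1, 0, 0, 0, 0, 0, 0, 0, 1, 0, 0, 0, 0, 0, 0, 0, 0, 0, 0, 0, 0, 0, 0],
  [0, 0, 0, 0, 0, 0, 80, 0, 160, 0, 240, 0, 0, 0, 160, 0, 0, 0, 80, 0, 0, 0, 0, 0, 0, 0],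
  [0, 0, 0, 1, 0, 16, 0, 0, 0, 1, 0, 16, 0, 10, 0, 10, 0, 0, 0, 0, 0, 0, 0, 0, 0, 0],
  [0, 0, 0, 0, 10, 0, 16, 0, 0, 0, 0, 0, 1, 10, 16, 0, 0, 0, 0, 1, 0, 0, 0, 0, 0, 0],
  [0, 0, 0, 0, 10, 80, 0, 0, 80, 0, 0, 10, 10, 160, 80, 10, 10, 80, 0, 0, 10, 0, 0, 0, 0, 0],
  [0, 0, 0, 0, 0, 0, 16, 0, 80, 0, 160, 0, 16, 80, 256, 0, 0, 80, 80, 16, 80, 0, 0, 0, 0, 0],
  [0, 0, 0, 0, 0, 0, 0, 0, 0, 0, 0, 10, 0, 10, 0, 16, 0, 16, 0, 0, 0, 0, 1, 1, 0, 0],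
  [0, 0, 0, 0, 0, 0, 0, 1, 16, 0, 0, 0, 0, 10, 0, 0, 1, 0, 16, 0, 10, 0, 0, 0, 0, 0],
  [0, 0, 0, 0, 0, 0, 0, 0, 0, 0, 0, 0, 0, 80, 80, 16, 0, 160, 0, 0, 80, 0, 0, 16, 0, 0],
  [0, 0, 0, 0, 0, 0, 0, 0, 16, 0, 80, 0, 0, 0, 80, 0, 16, 0, 120, 0, 80, 40, 0, 0, 0, 0],
  [0, 0, 0, 0, 0, 0, 0, 0, 0, 0, 0, 0, 1, 0, 16, 0, 0, 0, 0, 0, 10, 0, 0, 0, 0, 0],
  [0, 0, 0, 0, 0, 0, 0, 0, 0, 0, 0, 0, 0, 10, 80, 0, 10, 80, 80, 10, 170, 80, 0, 10, 10, 0],
  [0, 0, 0, 0, 0, 0, 0, 0, 0, 0, 0, 0, 0, 0, 0, 0, 0, 0, 40, 0, 80, 80, 0, 0, 16, 0],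
  [0, 0, 0, 0, 0, 0, 0, 0, 0, 0, 0, 0, 0, 0, 0, 1, 0, 0, 0, 0, 0, 0, 0, 1, 0, 0],
  [0, 0, 0, 0, 0, 0, 0, 0, 0, 0, 0, 0, 0, 0, 0, 1, 0, 16, 0, 0, 10, 0, 1, 16, 10, 0],
  [0, 0, 0, 0, 0, 0, 0, 0, 0, 0, 0, 0, 0, 0, 0, 0, 0, 0, 0, 0, 10, 16, 0, 10, 17, 1],
  [0, 0, 0, 0, 0, 0, 0, 0, 0, 0, 0, 0, 0, 0, 0, 0, 0, 0, 0, 0, 0, 0, 0, 0, 1, 0]]

def K69L : List (List ℕ) := [
  [0, 0, 0, 0, 0, 0, 0, 0, 0, 1, 0, 0, 0, 0, 0, 0, 0, 0, 0, 0, 0, 0, 0, 0, 0, 0],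
  [0, 0, 0, 27, 0, 0, 0, 0, 0, 0, 0, 0, 27, 0, 0, 0, 0, 0, 0, 0, 0, 0, 0, 0, 0, 0],
  [0, 0, 0, 0, 0, 0, 216, 0, 0, 0, 0, 0, 0, 0, 0, 0, 0, 0, 0, 0, 0, 0, 0, 0, 0, 0],
  [0, 27, 0, 0, 0, 0, 0, 0, 0, 0, 0, 0, 0, 0, 0, 0, 27, 0, 0, 0, 0, 0, 0, 0, 0, 0],
  [0, 0, 0, 0, 270, 0, 0, 0, 0, 0, 0, 0, 0, 270, 0, 0, 0, 0, 0, 0, 0, 0, 0, 0, 0, 0],
  [0, 0, 0, 0, 0, 0, 0, 0, 432, 0, 0, 0, 0, 0, 0, 0, 0, 0, 0, 0, 0, 0, 0, 0, 0, 0],
  [0, 0, 216, 0, 0, 0, 0, 0, 0, 0, 0, 0, 0, 0, 0, 0, 0, 0, 216, 0, 0, 0, 0, 0, 0, 0],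
  [0, 0, 0, 0, 0, 0, 0, 0, 0, 0, 0, 27, 0, 0, 0, 0, 0, 0, 0, 0, 0, 0, 0, 0, 0, 0],
  [0, 0, 0, 0, 0, 432, 0, 0, 0, 0, 0, 0, 0, 0, 432, 0, 0, 0, 0, 0, 0, 0, 0, 0, 0, 0],
  [1, 0, 0, 0, 0, 0, 0, 0, 0, 0, 0, 0, 0, 0, 0, 0, 0, 0, 0, 0, 0, 0, 1, 0, 0, 0],
  [0, 0, 0, 0, 0, 0, 0, 0, 0, 0, 720, 0, 0, 0, 0, 0, 0, 0, 0, 0, 0, 0, 0, 0, 0, 0],
  [0, 0, 0, 0, 0, 0, 0, 27, 0, 0, 0, 0, 0, 0, 0, 27, 0, 0, 0, 0, 0, 0, 0, 0, 0, 0],
  [0, 27, 0, 0, 0, 0, 0, 0, 0, 0, 0, 0, 0, 0, 0, 0, 0, 0, 0, 0, 0, 0, 0, 27, 0, 0],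
  [0, 0, 0, 0, 270, 0, 0, 0, 0, 0, 0, 0, 0, 0, 0, 0, 0, 0, 0, 0, 270, 0, 0, 0, 0, 0],
  [0, 0, 0, 0, 0, 0, 0, 0, 432, 0, 0, 0, 0, 0, 0, 0, 0, 432, 0, 0, 0, 0, 0, 0, 0, 0],
  [0, 0, 0, 0, 0, 0, 0, 0, 0, 0, 0, 27, 0, 0, 0, 0, 0, 0, 0, 27, 0, 0, 0, 0, 0, 0],
  [0, 0, 0, 27, 0, 0, 0, 0, 0, 0, 0, 0, 0, 0, 0, 0, 0, 0, 0, 0, 0, 0, 0, 0, 27, 0],
  [0, 0, 0, 0, 0, 0, 0, 0, 0, 0, 0, 0, 0, 0, 432, 0, 0, 0, 0, 0, 0, 0, 0, 0, 0, 0],
  [0, 0, 0, 0, 0, 0, 216, 0, 0, 0, 0, 0, 0, 0, 0, 0, 0, 0, 0, 0, 0, 216, 0, 0, 0, 0],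
  [0, 0, 0, 0, 0, 0, 0, 0, 0, 0, 0, 0, 0, 0, 0, 27, 0, 0, 0, 0, 0, 0, 0, 0, 0, 0],
  [0, 0, 0, 0, 0, 0, 0, 0, 0, 0, 0, 0, 0, 270, 0, 0, 0, 0, 0, 0, 270, 0, 0, 0, 0, 0],
  [0, 0, 0, 0, 0, 0, 0, 0, 0, 0, 0, 0, 0, 0, 0, 0, 0, 0, 216, 0, 0, 0, 0, 0, 0, 0],
  [0, 0, 0, 0, 0, 0, 0, 0, 0, 1, 0, 0, 0, 0, 0, 0, 0, 0, 0, 0, 0, 0, 0, 0, 0, 1],
  [0, 0, 0, 0, 0, 0, 0, 0, 0, 0, 0, 0, 27, 0, 0, 0, 0, 0, 0, 0, 0, 0, 0, 0, 27, 0],
  [0, 0, 0, 0, 0, 0, 0, 0, 0, 0, 0, 0, 0, 0, 0, 0, 27, 0, 0, 0, 0, 0, 0, 27, 0, 0],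
  [0, 0, 0, 0, 0, 0, 0, 0, 0, 0, 0, 0, 0, 0, 0, 0, 0, 0, 0, 0, 0, 0, 1, 0, 0, 0]]

def k62L : List ℕ := [1, 20, 30, 10, 60, 20, 20, 5, 40, 0, 10, 0, 0, 0, 0, 0, 0, 0, 0, 0, 0, 0, 0, 0, 0, 0]

/-- the commutator of `4320 X₁`, `4320 X₉`, divided by `172800` -/
def KL : List (List ℤ) := [
  [0, 0, 0, 0, 0, 0, 0, 0, 0, 0, 0, -54, 54, 0, 0, 0, 0, 0, 0, 0, 0, 0, 0, 0, 0, 0],
  [0, 0, 0, 1, -10, -16, 16, 0, 0, 1, 0, -1, 16, 0, -16, 0, 10, 0, 0, -1, 0, 0, 0, 0, 0, 0],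
  [0, 0, 0, 4, 0, 0, 10, 0, -20, 0, -20, 0, 0, 20, -4, 0, 0, 0, 10, 0, 0, 0, 0, 0, 0, 0],
  [0, -1, -16, 0, 0, 0, 0, 0, 16, 0, 0, 0, 10, 0, 0, 1, 15, 0, -16, 0, -10, 0, 1, 0, 0, 0],
  [0, 1, 0, 0, 0, -8, 8, -1, 0, 0, 0, 1, -1, 0, 0, -1, 0, -8, 8, 0, 0, 0, 0, 1, 0, 0],
  [0, 2, 0, 0, 10, 0, -10, 0, 8, 0, -20, 0, 0, 0, 0, 2, 0, 0, -2, 0, 10, 0, 0, 0, 0, 0],
  [0, -2, -5, 0, -10, 10, 0, 0, 0, 0, 10, 0, 0, 10, 0, 0, -2, 2, 0, 0, -10, -5, 0, 2, 0, 0],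
  [0, 0, 0, 0, 20, 0, 0, 0, 0, -2, 0, -32, 0, 0, 32, -20, 0, 0, 0, 0, 0, 0, 0, 0, 2, 0],
  [0, 0, 5, -1, 0, -4, 0, 0, 0, 0, 10, 0, -1, -10, 0, 0, 0, 0, 0, -1, 0, 1, 0, 0, 1, 0],
  [0, -27, 0, 0, 0, 0, 0, 27, 0, 0, 0, 0, 0, 0, 0, 0, 27, 0, 0, 0, 0, 0, 0, -27, 0, 0],
  [0, 0, 6, 0, 0, 12, -6, 0, -12, 0, 0, 0, 0, 0, -12, 0, 0, 12, -6, 0, 0, 6, 0, 0, 0, 0],
  [1, 1, 0, 0, -10, 0, 0, 16, 0, 0, 0, 0, 0, -10, 0, 0, -1, -16, 0, 10, 10, 0, 0, -1, 0, 0],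
  [-1, -16, 0, -10, 10, 0, 0, 0, 16, 0, 0, 0, 0, 10, 0, 1, 0, 0, 16, 0, 0, 0, -1, -15, -10, 0],
  [0, 0, -8, 0, 0, 0, -8, 0, 16, 0, 0, 1, -1, 0, 16, 1, -1, 0, -8, 0, 0, -8, 0, 0, 0, 0],
  [0, 1, 1, 0, 0, 0, 0, -1, 0, 0, 10, 0, 0, -10, 0, 0, -1, -4, 0, 0, 0, 5, 0, -1, 0, 0],
  [0, 0, 0, -1, 10, -16, 0, 10, 0, 0, 0, 0, -1, -10, 0, 0, 0, 0, 0, 16, -10, 0, 0, 0, 1, 1],
  [0, -10, 0, -15, 0, 0, 16, 0, 0, -1, 0, 1, 0, 10, 16, 0, 0, 0, 0, 0, 10, 0, 0, -10, -16, -1],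
  [0, 0, 0, 0, 10, 0, -2, 0, 0, 0, -20, 2, 0, 0, 8, 0, 0, 0, -10, 0, 10, 0, 0, 0, 2, 0],
  [0, 0, -5, 2, -10, 2, 0, 0, 0, 0, 10, 0, -2, 10, 0, 0, 0, 10, 0, 0, -10, -5, 0, 0, -2, 0],
  [0, 2, 0, 0, 0, 0, 0, 0, 32, 0, 0, -20, 0, 0, 0, -32, 0, 0, 0, 0, 20, 0, -2, 0, 0, 0],
  [0, 0, 0, 1, 0, -8, 8, 0, 0, 0, 0, -1, 0, 0, 0, 1, -1, -8, 8, -1, 0, 0, 0, 0, 1, 0],
  [0, 0, 0, 0, 0, 0, 10, 0, -4, 0, -20, 0, 0, 20, -20, 0, 0, 0, 10, 0, 0, 0, 0, 4, 0, 0],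
  [0, 0, 0, -27, 0, 0, 0, 0, 0, 0, 0, 0, 27, 0, 0, 0, 0, 0, 0, 27, 0, 0, 0, 0, -27, 0],
  [0, 0, 0, 0, -10, 0, -16, 0, 0, 1, 0, 1, 15, 0, 16, 0, 10, 0, 0, 0, 0, -16, 0, 0, -1, 0],
  [0, 0, 0, 0, 0, 0, 0, -1, -16, 0, 0, 0, 10, 0, 0, -1, 16, -16, 16, 0, -10, 0, 1, 1, 0, 0],
  [0, 0, 0, 0, 0, 0, 0, 0, 0, 0, 0, 0, 0, 0, 0, -54, 54, 0, 0, 0, 0, 0, 0, 0, 0, 0]]

def ZL : List (List ℤ) := [
  [-410810400, 0, 3049552800, 1959552000, 0, 718502400, 0, 322509600, 5674536000, -387979200, 802872000, 1845244800, 0, 0, -2163672000, -1290038400, 0, -849139200, 0, 518464800, 0, -1261461600, 250689600, 0, 0, -360007200],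
  [-93573200, 0, 1053712800, 522547200, 0, 779587200, 0, -7786800, 1485691200, -132512800, 189201600, 197618400, 0, 0, -343224000, -63655200, 0, -657417600, 0, 209941200, 0, -557474400, 38444000, 0, 0, -82283600],
  [31024000, 0, 5896800, -152409600, 0, 48384000, 0, -17539200, 420638400, -246400, 66427200, -1512000, 0, 0, -189000000, -1512000, 0, 48384000, 0, -50198400, 0, 5896800, 9430400, 0, 0, 37072000],
  [-2223200, 0, 770666400, 217728000, 0, 251596800, 0, -96919200, 37800000, -41742400, 109368000, 19353600, 0, 0, 37800000, 106444800, 0, -358041600, 0, 142581600, 0, -579247200, -83675200, 0, 0, -36898400],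
  [4326000, 0, -85730400, -43545600, 0, 56246400, 0, 28803600, -91627200, 13288800, -26913600, -48535200, 0, 0, 169646400, 38556000, 0, 99792000, 0, -36514800, 0, 88452000, -2839200, 0, 0, 9970800],
  [46093600, 0, -508485600, -261273600, 0, -180230400, 0, 13759200, -1065355200, 9531200, 71870400, 17539200, 0, 0, 284558400, -26006400, 0, 124588800, 0, -138650400, 0, 166471200, -32401600, 0, 0, 69479200],
  [-44626400, 0, 348818400, 228614400, 0, -180230400, 0, 13759200, 649252800, 459200, -9777600, 17539200, 0, 0, 39614400, -26006400, 0, 124588800, 0, 106293600, 0, 43999200, 31102400, 0, 0, -66600800],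
  [-16637600, 0, 73936800, 130636800, 0, 55641600, 0, 3780000, 603892800, 45550400, 138398400, 307843200, 0, 0, -615384000, -40521600, 0, -118540800, 0, 69098400, 0, 30391200, -25412800, 0, 0, -51312800],
  [-10228400, 0, -89359200, 54432000, 0, 86486400, 0, -12776400, 1512000, 6960800, -47880000, -13759200, 0, 0, 1512000, 8013600, 0, -65923200, 0, 47098800, 0, 63050400, -3522400, 0, 0, -18897200],
  [384577200, 0, -281685600, -783820800, 0, -212284800, 0, -1153278000, -1281873600, -1965600, -307540800, -322509600, 0, 0, -498052800, 461311200, 0, 179625600, 0, 414363600, 0, -673596000, -205178400, 0, 0, 181364400],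
  [705600, 0, -44906400, 0, 0, -87091200, 0, -2721600, -2721600, -4032000, 9979200, 2721600, 0, 0, -2721600, 2721600, 0, -87091200, 0, -2721600, 0, -44906400, -4032000, 0, 0, 705600],
  [3094000, 0, -209109600, -174182400, 0, -287280000, 0, -152031600, -473860800, -6916000, -101102400, -3780000, 0, 0, 135777600, -3780000, 0, 365904000, 0, -64940400, 0, 8618400, -464800, 0, 0, 67606000],
  [148246000, 0, -209109600, -174182400, 0, -287280000, 0, -152031600, -473860800, -6916000, -101102400, -3780000, 0, 0, 135777600, -3780000, 0, 365904000, 0, -64940400, 0, 8618400, -464800, 0, 0, 67606000],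
  [-5124000, 0, 23133600, 0, 0, -36288000, 0, 4989600, -146059200, 2452800, 9374400, -9072000, 0, 0, -146059200, -9072000, 0, -36288000, 0, 4989600, 0, 23133600, 2452800, 0, 0, -5124000],
  [6302800, 0, 8618400, -54432000, 0, -65923200, 0, 19882800, -107352000, -7554400, -84168000, 8013600, 0, 0, -107352000, -13759200, 0, 86486400, 0, -39992400, 0, -143791200, 2928800, 0, 0, 14971600],
  [-13034000, 0, 182800800, 174182400, 0, 365904000, 0, 22150800, 484142400, 12437600, 15019200, -3780000, 0, 0, -125496000, -3780000, 0, -287280000, 0, -64940400, 0, -34927200, 5986400, 0, 0, -77546000],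
  [-13034000, 0, 182800800, 174182400, 0, 365904000, 0, 22150800, 484142400, 12437600, 15019200, -3780000, 0, 0, -125496000, -3780000, 0, -287280000, 0, -64940400, 0, -34927200, 5986400, 0, 0, 67606000],
  [-51480800, 0, 427744800, 261273600, 0, 124588800, 0, -8013600, 807105600, -13048000, 246052800, -26006400, 0, 0, -542808000, 17539200, 0, -180230400, 0, 144396000, 0, -247212000, 28884800, 0, 0, -74866400],
  [39239200, 0, -184615200, -228614400, 0, 124588800, 0, -8013600, -417614400, 14168000, -162187200, -26006400, 0, 0, 192024000, 17539200, 0, -180230400, 0, -100548000, 0, 120204000, -16475200, 0, 0, 61213600],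
  [9167200, 0, -100245600, -130636800, 0, -118540800, 0, 3780000, -876657600, -35089600, 51307200, -40521600, 0, 0, 342619200, 307843200, 0, 55641600, 0, -61538400, 0, -56700000, 35873600, 0, 0, 43842400],
  [-10189200, 0, 131997600, 43545600, 0, 99792000, 0, -14742000, 256737600, 386400, 2116800, 38556000, 0, 0, -4536000, -48535200, 0, 56246400, 0, 50576400, 0, -42184800, 16514400, 0, 0, -15834000],
  [-33488000, 0, 158306400, 152409600, 0, 48384000, 0, 26006400, 115819200, 20720000, 168033600, -1512000, 0, 0, 725457600, -1512000, 0, 48384000, 0, 58665600, 0, 158306400, 11043200, 0, 0, -39536000],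
  [-181515600, 0, 110224800, 783820800, 0, 179625600, 0, 806274000, 1069588800, -147117600, 215006400, 461311200, 0, 0, 285768000, -322509600, 0, -212284800, 0, -761367600, 0, 502135200, 56095200, 0, 0, 21697200],
  [63901600, 0, -796975200, -217728000, 0, -358041600, 0, 33717600, -397656000, -99803200, -35784000, 106444800, 0, 0, -397656000, 19353600, 0, 251596800, 0, -205783200, 0, 552938400, -57870400, 0, 0, 98576800],
  [159636400, 0, -1080021600, -522547200, 0, -657417600, 0, -51332400, -1388318400, -263200, -159163200, -63655200, 0, 0, 440596800, 197618400, 0, 779587200, 0, -269060400, 0, 531165600, -171220000, 0, 0, 148346800],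
  [547192800, 0, -3221013600, -1959552000, 0, -849139200, 0, -461311200, -6082776000, 105537600, -503496000, -1290038400, 0, 0, 1755432000, 1845244800, 0, 718502400, 0, -657266400, 0, 1090000800, -533131200, 0, 0, 496389600]]

/-- the ten functions times `1080` -/
def AL : List (List ℤ) := [
  [1080, 1080, 1080, 1080, 1080, 1080, 1080, 1080, 1080, 1080, 1080, 1080, 1080, 1080, 1080, 1080, 1080, 1080, 1080, 1080, 1080, 1080, 1080, 1080, 1080, 1080],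
  [1080, 900, 720, 720, 540, 360, 360, 360, 180, 540, 0, 180, 180, 0, -180, -180, -180, -360, -360, -360, -540, -720, -540, -720, -900, -1080],
  [1080, 60, -120, -120, 120, -60, -60, 360, -30, 540, 0, 180, 180, 0, 30, -180, -180, 60, 60, -360, -120, 120, -540, 120, -60, -1080],
  [1080, 260, 80, -280, -60, -40, -40, -40, 20, -540, 0, 20, 20, 120, 20, 20, 20, -40, -40, -40, -60, 80, -540, -280, 260, 1080],
  [1080, -40, -40, -40, 72, -40, -40, -40, -40, 1080, 72, -40, -40, 72, -40, -40, -40, -40, -40, -40, 72, -40, 1080, -40, -40, 1080],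
  [1080, -120, 30, 120, 0, -30, -30, -120, 30, -1080, 0, 120, 120, 0, -30, -120, -120, 30, 30, 120, 0, -30, 1080, -120, 120, -1080],
  [1080, 100, -80, -120, 20, 40, 40, -40, -20, -540, 0, 20, 20, -40, -20, 20, 20, 40, 40, -40, 20, -80, -540, -120, 100, 1080],
  [1080, -40, 20, -40, -24, 20, 20, -40, 20, 1080, -36, -40, -40, -24, 20, -40, -40, 20, 20, -40, -24, 20, 1080, -40, -40, 1080],
  [1080, -100, 20, 80, 0, -10, -10, -40, 5, -540, 0, 20, 20, 0, 5, 20, 20, -10, -10, -40, 0, 20, -540, 80, -100, 1080],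
  [1080, -60, 0, 0, 12, 0, 0, -120, 0, 540, 0, -60, -60, 0, 0, 60, 60, 0, 0, 120, -12, 0, -540, 0, 60, -1080]]

def LL : List (List ℤ) := [
  [1080, 58320, 233280, 58320, 583200, 466560, 466560, 29160, 933120, 2160, 777600, 58320, 58320, 583200, 933120, 58320, 58320, 466560, 466560, 29160, 583200, 233280, 2160, 58320, 58320, 1080],
  [8640, 388800, 1244160, 311040, 2332800, 1244160, 1244160, 77760, 1244160, 8640, 0, 77760, 77760, 0, -1244160, -77760, -77760, -1244160, -1244160, -77760, -2332800, -1244160, -8640, -311040, -388800, -8640],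
  [172800, 518400, -4147200, -1036800, 10368000, -4147200, -4147200, 1555200, -4147200, 172800, 0, 1555200, 1555200, 0, 4147200, -1555200, -1555200, 4147200, 4147200, -1555200, -10368000, 4147200, -172800, 1036800, -518400, -172800],
  [226800, 2948400, 3628800, -3175200, -6804000, -3628800, -3628800, -226800, 3628800, -226800, 0, 226800, 226800, 13608000, 3628800, 226800, 226800, -3628800, -3628800, -226800, -6804000, 3628800, -226800, -3175200, 2948400, 226800],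
  [324000, -648000, -2592000, -648000, 11664000, -5184000, -5184000, -324000, -10368000, 648000, 15552000, -648000, -648000, 11664000, -10368000, -648000, -648000, -5184000, -5184000, -324000, 11664000, -2592000, 648000, -648000, -648000, 324000],
  [483840, -2903040, 2903040, 2903040, 0, -5806080, -5806080, -1451520, 11612160, -967680, 0, 2903040, 2903040, 0, -11612160, -2903040, -2903040, 5806080, 5806080, 1451520, 0, -2903040, 967680, -2903040, 2903040, -483840],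
  [612360, 3061800, -9797760, -3674160, 6123600, 9797760, 9797760, -612360, -9797760, -612360, 0, 612360, 612360, -12247200, -9797760, 612360, 612360, 9797760, 9797760, -612360, 6123600, -9797760, -612360, -3674160, 3061800, 612360],
  [756000, -1512000, 3024000, -1512000, -9072000, 6048000, 6048000, -756000, 12096000, 1512000, -18144000, -1512000, -1512000, -9072000, 12096000, -1512000, -1512000, 6048000, 6048000, -756000, -9072000, 3024000, 1512000, -1512000, -1512000, 756000],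
  [1451520, -7257600, 5806080, 5806080, 0, -5806080, -5806080, -1451520, 5806080, -1451520, 0, 1451520, 1451520, 0, 5806080, 1451520, 1451520, -5806080, -5806080, -1451520, 0, 5806080, -1451520, 5806080, -7257600, 1451520],
  [1512000, -4536000, 0, 0, 9072000, 0, 0, -4536000, 0, 1512000, 0, -4536000, -4536000, 0, 0, 4536000, 4536000, 0, 0, 4536000, -9072000, 0, -1512000, 0, 4536000, -1512000]]

def sz7L : List ℕ := [1, 56, 126, 56, 1]

def K71L : List (List ℕ) := [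
  [0, 1, 0, 0, 0],
  [1, 27, 27, 1, 0],
  [0, 27, 72, 27, 0],
  [0, 1, 27, 27, 1],
  [0, 0, 0, 1, 0]]

/-- the five functions times `84` -/
def A5L : List (List ℤ) := [
  [84, 84, 84, 84, 84],
  [84, 42, 0, -42, -84],
  [84, 12, -12, 12, 84],
  [84, -6, 4, -6, 84],
  [84, -3, 0, 3, -84]]

def L5L : List (List ℤ) := [
  [84, 4704, 10584, 4704, 84],
  [672, 18816, 0, -18816, -672],
  [2940, 23520, -52920, 23520, 2940],
  [7056, -28224, 42336, -28224, 7056],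
  [9408, -18816, 0, 18816, -9408]]

/-- the sizes of the 26 classes -/
def sz6 (c : Fin 26) : ℕ := sz6L.getD c 0

/-- the class `1` -/
def K61 (c x : Fin 26) : ℕ := tabN K61L c x

/-- the class `9` -/
def K69 (c x : Fin 26) : ℕ := tabN K69L c x

/-- the row `2` of the class `2` -/
def k62 (x : Fin 26) : ℕ := k62L.getD x 0

/-- `4320 X₁` -/
def P1 (c x : Fin 26) : ℤ := ((4320 / sz6 c * K61 c x : ℕ) : ℤ)

/-- `4320 X₉` -/
def P9 (c x : Fin 26) : ℤ := ((4320 / sz6 c * K69 c x : ℕ) : ℤ)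

def KM (c x : Fin 26) : ℤ := tab KL c x

def ZM (c x : Fin 26) : ℤ := tab ZL c x

def AM (k : Fin 10) (c : Fin 26) : ℤ := tab AL k c

def LM (k : Fin 10) (c : Fin 26) : ℤ := tab LL k c

/-- the ten functions `1, 8, 160, 210, 300, 448, 567, 700, 1344, 1400` -/
def av6 (k : Fin 10) (c : Fin 26) : ℚ := (AM k c : ℚ) / 1080

/-- the sizes of the five classes -/
def sz7 (c : Fin 5) : ℕ := sz7L.getD c 0

/-- the class `1` of the action on the roots -/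
def K71 (c x : Fin 5) : ℕ := tabN K71L c x

/-- `504 X₁` -/
def P7 (c x : Fin 5) : ℤ := ((504 / sz7 c * K71 c x : ℕ) : ℤ)

def A5 (k c : Fin 5) : ℤ := tab A5L k c

def L5 (k c : Fin 5) : ℤ := tab L5L k c

/-- the five functions `1, 8, 35, 84, 112` -/
def av7 (k c : Fin 5) : ℚ := (A5 k c : ℚ) / 84

/-! ### the general argument -/

section gen

variable {n m : ℕ}

/-- a common eigenvector is killed by the commutator -/
theorem comm_zero {P Q K : Fin n → Fin n → ℤ} {a : Fin n → ℂ} {α β : ℂ}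
    (h1 : ∀ c, ∑ x, (P c x : ℂ) * a x = α * a c) (h2 : ∀ c, ∑ x, (Q c x : ℂ) * a x = β * a c)
    {g : ℤ} (hg : g ≠ 0) (hK : ∀ c x, g * K c x = ∑ y, (P c y * Q y x - Q c y * P y x)) (c : Fin n) :
    ∑ x, (K c x : ℂ) * a x = 0 := by
  have e1 : ∀ x, (g : ℂ) * ((K c x : ℂ) * a x) =
      ∑ y, ((P c y : ℂ) * ((Q y x : ℂ) * a x) - (Q c y : ℂ) * ((P y x : ℂ) * a x)) := by
    intro x
    rw [← mul_assoc, ← Int.cast_mul, hK, Int.cast_sum, Finset.sum_mul]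
    refine Finset.sum_congr rfl fun y _ => ?_
    push_cast
    ring
  have hg' : (g : ℂ) ≠ 0 := by exact_mod_cast hg
  refine (mul_eq_zero.1 (?_ : (g : ℂ) * ∑ x, (K c x : ℂ) * a x = 0)).resolve_left hg'
  rw [Finset.mul_sum, Finset.sum_congr rfl fun x _ => e1 x, Finset.sum_comm]
  have e2 : ∀ y, ∑ x, ((P c y : ℂ) * ((Q y x : ℂ) * a x) - (Q c y : ℂ) * ((P y x : ℂ) * a x)) =
      β * ((P c y : ℂ) * a y) - α * ((Q c y : ℂ) * a y) := by
    intro y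
    rw [Finset.sum_sub_distrib, ← Finset.mul_sum, ← Finset.mul_sum, h1, h2]
    ring
  rw [Finset.sum_congr rfl fun y _ => e2 y, Finset.sum_sub_distrib, ← Finset.mul_sum, ← Finset.mul_sum, h1, h2]
  ring

/-- division by the sizes -/
theorem scale {K : Fin n → Fin n → ℕ} {sz : Fin n → ℕ} {S : ℕ} {P : Fin n → Fin n → ℤ} {a : Fin n → ℂ} {α : ℂ}
    (hP : ∀ c x, P c x = ((S / sz c * K c x : ℕ) : ℤ)) (hS : ∀ c, S / sz c * sz c = S)
    (h : ∀ c, ∑ x, (K c x : ℂ) * a x = (sz c : ℂ) * α * a c) (c : Fin n) :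
    ∑ x, (P c x : ℂ) * a x = (S * α) * a c := by
  have e1 : ∑ x, (P c x : ℂ) * a x = ((S / sz c : ℕ) : ℂ) * ∑ x, (K c x : ℂ) * a x := by
    rw [Finset.mul_sum]
    refine Finset.sum_congr rfl fun x _ => ?_
    rw [hP, Int.cast_natCast, Nat.cast_mul, mul_assoc]
  have e2 : ((S / sz c : ℕ) : ℂ) * (sz c : ℂ) = (S : ℂ) := by
    rw [← Nat.cast_mul, hS]
  rw [e1, h]
  linear_combination (α * a c) * e2

/-- the expansion -/
theorem expand {Z K : Fin n → Fin n → ℤ} {A L : Fin m → Fin n → ℤ} {N : ℤ} {a : Fin n → ℂ}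
    (hZ : ∀ c x, N * (if c = x then 1 else 0) = ∑ k, A k c * L k x + ∑ y, Z c y * K y x)
    (hK : ∀ c, ∑ x, (K c x : ℂ) * a x = 0) (c : Fin n) :
    (N : ℂ) * a c = ∑ k, (A k c : ℂ) * ∑ x, (L k x : ℂ) * a x := by
  have e1 : (N : ℂ) * a c = ∑ x, ((N * (if c = x then 1 else 0) : ℤ) : ℂ) * a x := by
    rw [Finset.sum_eq_single c]
    · rw [if_pos rfl, mul_one]
    · intro x _ hx
      rw [if_neg hx.symm, mul_zero, Int.cast_zero, zero_mul]
    · intro h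
      exact absurd (Finset.mem_univ _) h
  have e2 : ∀ x, ((N * (if c = x then 1 else 0) : ℤ) : ℂ) * a x =
      ∑ k, (A k c : ℂ) * ((L k x : ℂ) * a x) + ∑ y, (Z c y : ℂ) * ((K y x : ℂ) * a x) := by
    intro x
    rw [hZ, Int.cast_add, Int.cast_sum, Int.cast_sum, add_mul, Finset.sum_mul, Finset.sum_mul]
    congr 1
    · refine Finset.sum_congr rfl fun k _ => ?_
      push_cast
      ring
    · refine Finset.sum_congr rfl fun y _ => ?_
      push_cast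
      ring
  rw [e1, Finset.sum_congr rfl fun x _ => e2 x, Finset.sum_add_distrib, Finset.sum_comm, Finset.sum_comm (γ := Fin n)]
  have e3 : ∑ y, ∑ x, (Z c y : ℂ) * ((K y x : ℂ) * a x) = 0 := by
    refine Finset.sum_eq_zero fun y _ => ?_
    rw [← Finset.mul_sum, hK, mul_zero]
  rw [e3, add_zero]
  exact Finset.sum_congr rfl fun k _ => (Finset.mul_sum _ _ _).symm

/-- the left eigenvectors -/
theorem left_eig {P : Fin n → Fin n → ℤ} {L : Fin m → Fin n → ℤ} {D : ℤ} {μ : Fin m → ℤ} {a : Fin n → ℂ} {α : ℂ}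
    (h1 : ∀ c, ∑ x, (P c x : ℂ) * a x = α * a c) (hL : ∀ k x, D * ∑ c, L k c * P c x = μ k * L k x) (k : Fin m) :
    ((μ k : ℂ) - D * α) * ∑ x, (L k x : ℂ) * a x = 0 := by
  have e1 : (μ k : ℂ) * ∑ x, (L k x : ℂ) * a x = ∑ x, (D : ℂ) * ∑ c, (L k c : ℂ) * ((P c x : ℂ) * a x) := by
    rw [Finset.mul_sum]
    refine Finset.sum_congr rfl fun x _ => ?_
    have e2 : ((μ k : ℂ)) * (L k x : ℂ) = (D : ℂ) * ∑ c, (L k c : ℂ) * (P c x : ℂ) := by
      have := congrArg (fun z : ℤ => (z : ℂ)) (hL k x)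
      push_cast at this
      exact this.symm
    rw [← mul_assoc, e2, mul_assoc, Finset.sum_mul]
    congr 1
    exact Finset.sum_congr rfl fun c _ => by ring
  have e3 : ∑ x, (D : ℂ) * ∑ c, (L k c : ℂ) * ((P c x : ℂ) * a x) = D * α * ∑ x, (L k x : ℂ) * a x := by
    rw [← Finset.mul_sum, Finset.sum_comm, mul_assoc]
    congr 1
    rw [Finset.mul_sum]
    refine Finset.sum_congr rfl fun c _ => ?_
    rw [← Finset.mul_sum, h1]
    ring
  rw [sub_mul, e1, e3, sub_self]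

end gen

/-! ### the tables -/

theorem sum_fin {n : ℕ} (f : Fin n → ℤ) : ∑ i, f i = ((List.finRange n).map f).sum := Fin.sum_univ_def f

theorem hS6 : ∀ c, 4320 / sz6 c * sz6 c = 4320 := by decide +kernel

theorem hS7 : ∀ c, 504 / sz7 c * sz7 c = 504 := by decide +kernel

theorem hK' : ∀ c x, (172800 : ℤ) * KM c x = ((List.finRange 26).map fun y => P1 c y * P9 y x - P9 c y * P1 y x).sum := by
  decide +kernel

theorem hZ' : ∀ c x : Fin 26, (7838208000 : ℤ) * (if c = x then 1 else 0) =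
    ((List.finRange 10).map fun k => AM k c * LM k x).sum + ((List.finRange 26).map fun y => ZM c y * KM y x).sum := by
  decide +kernel

theorem hL' : ∀ (k : Fin 10) (x : Fin 26), (1080 : ℤ) * ((List.finRange 26).map fun c => LM k c * P1 c x).sum =
    4320 * AM k 1 * LM k x := by
  decide +kernel

theorem hr' : ∀ k : Fin 10, (1080 : ℤ) * ((List.finRange 26).map fun x => (k62 x : ℤ) * AM k x).sum =
    216 * AM k 2 * AM k 2 := by
  decide +kernel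

theorem hs2 : sz6 2 = 216 := by decide +kernel

theorem hA0 : ∀ k, AM k 0 = 1080 := by decide +kernel

theorem hdist : ∀ k j : Fin 10, AM k 1 = AM j 1 → k = j ∨ (k = 4 ∧ j = 7) ∨ (k = 7 ∧ j = 4) := by decide +kernel

theorem hA42 : AM 4 2 = -40 := by decide +kernel

theorem hA72 : AM 7 2 = 20 := by decide +kernel

theorem hZ5' : ∀ c x : Fin 5, (1693440 : ℤ) * (if c = x then 1 else 0) =
    ((List.finRange 5).map fun k => A5 k c * L5 k x).sum := by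
  decide +kernel

theorem hL5' : ∀ (k : Fin 5) (x : Fin 5), (84 : ℤ) * ((List.finRange 5).map fun c => L5 k c * P7 c x).sum =
    504 * A5 k 1 * L5 k x := by
  decide +kernel

theorem hA50 : ∀ k, A5 k 0 = 84 := by decide +kernel

theorem hdist5 : ∀ k j : Fin 5, A5 k 1 = A5 j 1 → k = j := by decide +kernel

/-! ### the theorems -/

/-- **The ten functions.** -/
theorem solve6 (a : Fin 26 → ℂ) (h0 : a 0 = 1)
    (h1 : ∀ c, ∑ x, (K61 c x : ℂ) * a x = (sz6 c : ℂ) * a 1 * a c)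
    (h9 : ∀ c, ∑ x, (K69 c x : ℂ) * a x = (sz6 c : ℂ) * a 9 * a c)
    (h2 : ∑ x, (k62 x : ℂ) * a x = (sz6 2 : ℂ) * a 2 * a 2) :
    ∃ k : Fin 10, ∀ c, a c = (av6 k c : ℚ) := by
  have h1' := scale (P := P1) (fun _ _ => rfl) hS6 h1
  have h9' := scale (P := P9) (fun _ _ => rfl) hS6 h9
  have hK : ∀ c x, (172800 : ℤ) * KM c x = ∑ y, (P1 c y * P9 y x - P9 c y * P1 y x) := by
    intro c x
    rw [sum_fin, hK']
  have hK0 := comm_zero h1' h9' (by norm_num) hK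
  have hZ : ∀ c x : Fin 26, (7838208000 : ℤ) * (if c = x then 1 else 0) =
      ∑ k, AM k c * LM k x + ∑ y, ZM c y * KM y x := by
    intro c x
    rw [sum_fin, sum_fin, hZ']
  have hex := expand hZ hK0
  have hL : ∀ (k : Fin 10) (x : Fin 26), (1080 : ℤ) * ∑ c, LM k c * P1 c x = 4320 * AM k 1 * LM k x := by
    intro k x
    rw [sum_fin, hL']
  have hle := left_eig h1' hL
  obtain ⟨t, ht⟩ : ∃ t : Fin 10 → ℂ, t = fun k => (1080 / 7838208000) * ∑ x, (LM k x : ℂ) * a x := ⟨_, rfl⟩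
  have hav : ∀ k c, ((av6 k c : ℚ) : ℂ) = (AM k c : ℂ) / 1080 := by
    intro k c
    rw [av6]
    push_cast
    rfl
  have ha : ∀ c, a c = ∑ k, ((av6 k c : ℚ) : ℂ) * t k := by
    intro c
    have e1 := hex c
    have e2 : ∑ k, ((av6 k c : ℚ) : ℂ) * t k = (1 / 7838208000) * ∑ k, (AM k c : ℂ) * ∑ x, (LM k x : ℂ) * a x := by
      rw [Finset.mul_sum]
      refine Finset.sum_congr rfl fun k _ => ?_
      rw [hav, ht]
      ring
    rw [e2, ← e1]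
    push_cast
    ring
  have hth : ∀ k, (((av6 k 1 : ℚ) : ℂ) - a 1) * t k = 0 := by
    intro k
    have e1 := hle k
    rw [hav, ht]
    have e2 : ((AM k 1 : ℂ) / 1080 - a 1) * (1080 / 7838208000 * ∑ x, (LM k x : ℂ) * a x) =
        (1 / (4320 * 7838208000)) * ((((4320 * AM k 1 : ℤ) : ℂ) - ((1080 : ℤ) : ℂ) * (((4320 : ℕ) : ℂ) * a 1)) *
          ∑ x, (LM k x : ℂ) * a x) := by
      push_cast
      ring
    show ((AM k 1 : ℂ) / 1080 - a 1) * (1080 / 7838208000 * ∑ x, (LM k x : ℂ) * a x) = 0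
    rw [e2, e1, mul_zero]
  have hsum : ∑ k, t k = 1 := by
    have e1 := ha 0
    rw [h0] at e1
    rw [e1]
    refine Finset.sum_congr rfl fun k _ => ?_
    rw [hav, hA0]
    push_cast
    ring
  have hav1 : ∀ k j : Fin 10, ((av6 k 1 : ℚ) : ℂ) = ((av6 j 1 : ℚ) : ℂ) → k = j ∨ (k = 4 ∧ j = 7) ∨ (k = 7 ∧ j = 4) := by
    intro k j h
    refine hdist k j ?_
    rw [hav, hav] at h
    have h5 : (AM k 1 : ℂ) = (AM j 1 : ℂ) := by linear_combination 1080 * h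
    exact_mod_cast h5
  obtain ⟨k0, hk0⟩ : ∃ k, t k ≠ 0 := by
    by_contra hcon
    push Not at hcon
    rw [Finset.sum_eq_zero fun k _ => hcon k] at hsum
    exact zero_ne_one hsum
  have ha1 : ((av6 k0 1 : ℚ) : ℂ) = a 1 := sub_eq_zero.1 ((mul_eq_zero.1 (hth k0)).resolve_right hk0)
  have hz : ∀ k, t k ≠ 0 → k = k0 ∨ (k = 4 ∧ k0 = 7) ∨ (k = 7 ∧ k0 = 4) := by
    intro k hk
    refine hav1 k k0 ?_
    rw [ha1]
    exact sub_eq_zero.1 ((mul_eq_zero.1 (hth k)).resolve_right hk)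
  -- a single function
  have single : ∀ k, (∀ j, j ≠ k → t j = 0) → ∀ c, a c = ((av6 k c : ℚ) : ℂ) := by
    intro k hk c
    have e1 : t k = 1 := by
      rw [← hsum]
      exact (Finset.sum_eq_single k (fun j _ hj => hk j hj) fun h => absurd (Finset.mem_univ _) h).symm
    rw [ha c, Finset.sum_eq_single k (fun j _ hj => by rw [hk j hj, mul_zero])
      fun h => absurd (Finset.mem_univ _) h, e1, mul_one]
  by_cases h47 : k0 = 4 ∨ k0 = 7
  · have hz' : ∀ k, k ≠ 4 ∧ k ≠ 7 → t k = 0 := by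
      intro k hk
      by_contra hne
      rcases hz k hne with h | h | h
      · rcases h47 with h4 | h7
        · exact hk.1 (h.trans h4)
        · exact hk.2 (h.trans h7)
      · exact hk.1 h.1
      · exact hk.2 h.1
    have h4ne7 : (4 : Fin 10) ≠ 7 := by decide
    have hpair : ∀ f : Fin 10 → ℂ, (∀ k, k ≠ 4 ∧ k ≠ 7 → f k = 0) → ∑ k, f k = f 4 + f 7 := by
      intro f hf
      exact Finset.sum_eq_add 4 7 h4ne7 (fun k _ hk => hf k hk) (fun h => absurd (Finset.mem_univ _) h)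
        fun h => absurd (Finset.mem_univ _) h
    have hs : t 4 + t 7 = 1 := by rw [← hsum, hpair t hz']
    have hac : ∀ c, a c = ((av6 4 c : ℚ) : ℂ) * t 4 + ((av6 7 c : ℚ) : ℂ) * t 7 := by
      intro c
      rw [ha c]
      exact hpair (fun k => ((av6 k c : ℚ) : ℂ) * t k) fun k hk => by rw [hz' k hk, mul_zero]
    have hr : ∀ k, ∑ x, (k62 x : ℂ) * ((av6 k x : ℚ) : ℂ) = 216 * ((av6 k 2 : ℚ) : ℂ) * ((av6 k 2 : ℚ) : ℂ) := by
      intro k
      have e1 := hr' k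
      rw [← sum_fin] at e1
      have e2 := congrArg (fun z : ℤ => (z : ℂ)) e1
      push_cast at e2
      have e3 : ∑ x, (k62 x : ℂ) * ((av6 k x : ℚ) : ℂ) = (1 / 1080) * ∑ x, (k62 x : ℂ) * (AM k x : ℂ) := by
        rw [Finset.mul_sum]
        exact Finset.sum_congr rfl fun x _ => by rw [hav]; ring
      rw [e3, hav]
      linear_combination (1 / 1080 / 1080) * e2
    have e1 : ∑ x, (k62 x : ℂ) * a x = 216 * ((av6 4 2 : ℚ) : ℂ) * ((av6 4 2 : ℚ) : ℂ) * t 4 +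
        216 * ((av6 7 2 : ℚ) : ℂ) * ((av6 7 2 : ℚ) : ℂ) * t 7 := by
      rw [← hr 4, ← hr 7, Finset.sum_mul, Finset.sum_mul, ← Finset.sum_add_distrib]
      exact Finset.sum_congr rfl fun x _ => by rw [hac x]; ring
    rw [h2, hs2, hac 2, hav, hav, hA42, hA72] at e1
    push_cast at e1
    have e2 : t 4 * t 7 = 0 := by
      have h7' : t 7 = 1 - t 4 := by linear_combination hs
      rw [h7'] at e1 ⊢
      linear_combination (-1080 * 1080 / (216 * 3600)) * e1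
    rcases mul_eq_zero.1 e2 with h | h
    · exact ⟨7, single 7 fun j hj => by
        by_cases h4 : j = 4
        · rw [h4, h]
        · exact hz' j ⟨h4, hj⟩⟩
    · exact ⟨4, single 4 fun j hj => by
        by_cases h7 : j = 7
        · rw [h7, h]
        · exact hz' j ⟨hj, h7⟩⟩
  · push Not at h47
    refine ⟨k0, single k0 fun j hj => ?_⟩
    by_contra hne
    rcases hz j hne with h | h | h
    · exact hj h
    · exact h47.2 h.2
    · exact h47.1 h.2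

/-- **The five functions.** -/
theorem solve7 (a : Fin 5 → ℂ) (h0 : a 0 = 1)
    (h1 : ∀ c, ∑ x, (K71 c x : ℂ) * a x = (sz7 c : ℂ) * a 1 * a c) :
    ∃ k : Fin 5, ∀ c, a c = (av7 k c : ℚ) := by
  have h1' := scale (P := P7) (fun _ _ => rfl) hS7 h1
  have hZ : ∀ c x : Fin 5, (1693440 : ℤ) * (if c = x then 1 else 0) =
      ∑ k, A5 k c * L5 k x + ∑ y : Fin 5, (0 : Fin 5 → Fin 5 → ℤ) c y * (0 : Fin 5 → Fin 5 → ℤ) y x := by
    intro c x
    rw [sum_fin (fun k => A5 k c * L5 k x), hZ5']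
    simp
  have hex := expand hZ (fun c => by simp : ∀ c, ∑ x, (((0 : Fin 5 → Fin 5 → ℤ) c x : ℤ) : ℂ) * a x = 0)
  have hL : ∀ (k : Fin 5) (x : Fin 5), (84 : ℤ) * ∑ c, L5 k c * P7 c x = 504 * A5 k 1 * L5 k x := by
    intro k x
    rw [sum_fin, hL5']
  have hle := left_eig h1' hL
  obtain ⟨t, ht⟩ : ∃ t : Fin 5 → ℂ, t = fun k => (84 / 1693440) * ∑ x, (L5 k x : ℂ) * a x := ⟨_, rfl⟩
  have hav : ∀ k c, ((av7 k c : ℚ) : ℂ) = (A5 k c : ℂ) / 84 := by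
    intro k c
    rw [av7]
    push_cast
    rfl
  have ha : ∀ c, a c = ∑ k, ((av7 k c : ℚ) : ℂ) * t k := by
    intro c
    have e1 := hex c
    have e2 : ∑ k, ((av7 k c : ℚ) : ℂ) * t k = (1 / 1693440) * ∑ k, (A5 k c : ℂ) * ∑ x, (L5 k x : ℂ) * a x := by
      rw [Finset.mul_sum]
      refine Finset.sum_congr rfl fun k _ => ?_
      rw [hav, ht]
      ring
    rw [e2, ← e1]
    push_cast
    ring
  have hth : ∀ k, (((av7 k 1 : ℚ) : ℂ) - a 1) * t k = 0 := by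
    intro k
    have e1 := hle k
    rw [hav, ht]
    have e2 : ((A5 k 1 : ℂ) / 84 - a 1) * (84 / 1693440 * ∑ x, (L5 k x : ℂ) * a x) =
        (1 / (504 * 1693440)) * ((((504 * A5 k 1 : ℤ) : ℂ) - ((84 : ℤ) : ℂ) * (((504 : ℕ) : ℂ) * a 1)) *
          ∑ x, (L5 k x : ℂ) * a x) := by
      push_cast
      ring
    show ((A5 k 1 : ℂ) / 84 - a 1) * (84 / 1693440 * ∑ x, (L5 k x : ℂ) * a x) = 0
    rw [e2, e1, mul_zero]
  have hsum : ∑ k, t k = 1 := by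
    have e1 := ha 0
    rw [h0] at e1
    rw [e1]
    refine Finset.sum_congr rfl fun k _ => ?_
    rw [hav, hA50]
    push_cast
    ring
  obtain ⟨k0, hk0⟩ : ∃ k, t k ≠ 0 := by
    by_contra hcon
    push Not at hcon
    rw [Finset.sum_eq_zero fun k _ => hcon k] at hsum
    exact zero_ne_one hsum
  have ha1 : ((av7 k0 1 : ℚ) : ℂ) = a 1 := sub_eq_zero.1 ((mul_eq_zero.1 (hth k0)).resolve_right hk0)
  have hz : ∀ k, k ≠ k0 → t k = 0 := by
    intro k hne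
    by_contra hk
    apply hne
    have h := (sub_eq_zero.1 ((mul_eq_zero.1 (hth k)).resolve_right hk)).trans ha1.symm
    refine hdist5 k k0 ?_
    rw [hav, hav] at h
    have h5 : (A5 k 1 : ℂ) = (A5 k0 1 : ℂ) := by linear_combination 84 * h
    exact_mod_cast h5
  refine ⟨k0, fun c => ?_⟩
  have e1 : t k0 = 1 := by
    rw [← hsum]
    exact (Finset.sum_eq_single k0 (fun j _ hj => hz j hj) fun h => absurd (Finset.mem_univ _) h).symm
  rw [ha c, Finset.sum_eq_single k0 (fun j _ hj => by rw [hz j hj, mul_zero])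
    fun h => absurd (Finset.mem_univ _) h, e1, mul_one]

end Cfsg.Agent.H416.LB
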