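import Mathlib.Data.Complex.Basic
import Mathlib.Algebra.BigOperators.Fin
import Mathlib.Algebra.Order.BigOperators.Ring.Finset
import Mathlib.Tactic.LinearCombination
import Mathlib.Tactic.FieldSimp

/-!
# S4879, row `E₈`: the spherical functions of three subgroups of index `2240` of `W(E₈)` (helper416; tables: helper970)

`N₁ = W(E₆) × W(A₂)`, `N₀ = W(E₆).⟨c, w₀⟩`, `N₂ = W(E₆).⟨c, s₇w₀⟩`; numbering of the double cosets as in
`tools/h970_e8x/tables.json`; `KX c x = #{s | cls s = c, cls (s · word e) = x}` for `e = 1` (word `[6]`) and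
`e = 2` (`N₁`) resp. `e = 4` (`N₀`, `N₂`) (word `[6, 5, 7, 6]`).

* `solve_gen` : the functions with `a 0 = 1` and `Σ K c x * a x = size c * α * a c` from a complete table;
* `solveN1`, `solveN0`, `solveN2` : they are the `avN1 k` etc., of degrees `dgN1 k` (`1, 35, 84, 300, 448, 560, 700, 112`
  resp. `1, 35, 84, 300, 700, 28, 525, 567` resp. `1, 35, 84, 300, 700, 1008, 112`);
* `dgN1_spec` etc. : the degrees.
-/

set_option autoImplicit false
set_option maxRecDepth 20000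

namespace Cfsg.Agent.H416.LB.X

open Finset

theorem sum_fin {n : ℕ} (f : Fin n → ℤ) : ∑ i, f i = ((List.finRange n).map f).sum := Fin.sum_univ_def f

/-- **The solutions, from a complete table.** -/
theorem solve_gen {n m : ℕ} {K : Fin n → Fin n → ℕ} {sz : Fin n → ℕ} {A M : Fin m → Fin n → ℤ} {D N : ℤ} {ν : Fin m → ℤ}
    (hD : D ≠ 0) (hN : N ≠ 0) (hZ : ∀ c x, ∑ k, A k c * (M k x * sz x) = if c = x then N else 0)
    (hK : ∀ k x, D * ∑ c, M k c * K c x = ν k * (sz x * M k x)) {c₀ : Fin n} (hA0 : ∀ k, A k c₀ = D)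
    (hν : Function.Injective ν) {a : Fin n → ℂ} {α : ℂ} (h0 : a c₀ = 1)
    (h : ∀ c, ∑ x, (K c x : ℂ) * a x = (sz c : ℂ) * α * a c) : ∃ k, ∀ c, a c = ((A k c : ℤ) : ℂ) / D := by
  have hD' : (D : ℂ) ≠ 0 := by exact_mod_cast hD
  have hN' : (N : ℂ) ≠ 0 := by exact_mod_cast hN
  obtain ⟨T, hT⟩ : ∃ T : Fin m → ℂ, T = fun k => ∑ x, (M k x : ℂ) * ((sz x : ℂ) * a x) := ⟨_, rfl⟩
  -- the expansion
  have hex : ∀ c, (N : ℂ) * a c = ∑ k, (A k c : ℂ) * T k := by
    intro c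
    have e1 : ∑ k, (A k c : ℂ) * T k = ∑ x, ((∑ k, A k c * (M k x * sz x) : ℤ) : ℂ) * a x := by
      rw [hT]
      simp only [Finset.mul_sum]
      rw [Finset.sum_comm]
      refine Finset.sum_congr rfl fun x _ => ?_
      rw [Int.cast_sum, Finset.sum_mul]
      refine Finset.sum_congr rfl fun k _ => ?_
      push_cast
      ring
    rw [e1, Finset.sum_eq_single c]
    · rw [hZ, if_pos rfl]
    · intro x _ hx
      rw [hZ, if_neg hx.symm, Int.cast_zero, zero_mul]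
    · intro h
      exact absurd (Finset.mem_univ _) h
  -- the eigenvalues
  have hle : ∀ k, ((ν k : ℂ) - D * α) * T k = 0 := by
    intro k
    have e1 : (ν k : ℂ) * T k = D * ∑ c, (M k c : ℂ) * ∑ x, (K c x : ℂ) * a x := by
      have e2 : D * ∑ c, (M k c : ℂ) * ∑ x, (K c x : ℂ) * a x =
          ∑ x, ((D * ∑ c, M k c * K c x : ℤ) : ℂ) * a x := by
        simp only [Finset.mul_sum]
        rw [Finset.sum_comm]
        refine Finset.sum_congr rfl fun x _ => ?_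
        rw [Int.cast_sum, Finset.sum_mul]
        refine Finset.sum_congr rfl fun c _ => ?_
        push_cast
        ring
      have e4 : (ν k : ℂ) * T k = ∑ x, (ν k : ℂ) * ((M k x : ℂ) * ((sz x : ℂ) * a x)) := by rw [hT, Finset.mul_sum]
      rw [e2, e4]
      refine Finset.sum_congr rfl fun x _ => ?_
      rw [hK]
      push_cast
      ring
    have e3 : ∑ c, (M k c : ℂ) * ∑ x, (K c x : ℂ) * a x = α * T k := by
      rw [hT]
      simp only [Finset.mul_sum (a := α)]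
      refine Finset.sum_congr rfl fun c _ => ?_
      rw [h]
      ring
    rw [sub_mul, e1, e3]
    ring
  obtain ⟨k0, hk0⟩ : ∃ k, T k ≠ 0 := by
    by_contra hcon
    push Not at hcon
    have e1 := hex c₀
    rw [h0, Finset.sum_eq_zero fun k _ => by rw [hcon k, mul_zero], mul_one] at e1
    exact hN' e1
  have hk : (ν k0 : ℂ) = D * α := sub_eq_zero.1 ((mul_eq_zero.1 (hle k0)).resolve_right hk0)
  have hz : ∀ k, k ≠ k0 → T k = 0 := by
    intro k hne
    by_contra hk1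
    have h1 : (ν k : ℂ) = D * α := sub_eq_zero.1 ((mul_eq_zero.1 (hle k)).resolve_right hk1)
    apply hne
    apply hν
    have h2 : (ν k : ℂ) = ν k0 := h1.trans hk.symm
    exact_mod_cast h2
  have hs : ∀ c, (N : ℂ) * a c = (A k0 c : ℂ) * T k0 := by
    intro c
    rw [hex c]
    exact Finset.sum_eq_single k0 (fun j _ hj => by rw [hz j hj, mul_zero]) fun h => absurd (Finset.mem_univ _) h
  have h1 := hs c₀
  rw [h0, hA0, mul_one] at h1
  refine ⟨k0, fun c => ?_⟩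
  have h2 := hs c
  rw [eq_div_iff hD']
  have h3 : (N : ℂ) * (a c * D) = N * (A k0 c) := by
    linear_combination (D : ℂ) * h2 - (A k0 c : ℂ) * h1
  exact mul_left_cancel₀ hN' h3

/-- two generators -/
theorem two {n : ℕ} {K1 K2 : Fin n → Fin n → ℕ} {sz : Fin n → ℕ} {a : Fin n → ℂ} {α β : ℂ}
    (h1 : ∀ c, ∑ x, (K1 c x : ℂ) * a x = (sz c : ℂ) * α * a c) (h2 : ∀ c, ∑ x, (K2 c x : ℂ) * a x = (sz c : ℂ) * β * a c)
    (c : Fin n) : ∑ x, ((K1 c x + K2 c x : ℕ) : ℂ) * a x = (sz c : ℂ) * (α + β) * a c := by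
  have e1 : ∀ x, ((K1 c x + K2 c x : ℕ) : ℂ) * a x = (K1 c x : ℂ) * a x + (K2 c x : ℂ) * a x := fun x => by
    push_cast
    ring
  rw [Finset.sum_congr rfl fun x _ => e1 x, Finset.sum_add_distrib, h1, h2]
  ring

/-- the degrees -/
theorem spec_gen {n m : ℕ} {sz : Fin n → ℕ} {A : Fin m → Fin n → ℤ} {D : ℤ} (hD : D ≠ 0) {dg : Fin m → ℕ} {N : ℕ}
    (h : ∀ k, (dg k : ℤ) * ((List.finRange n).map fun c => (sz c : ℤ) * (A k c * A k c)).sum = N * (D * D)) (k : Fin m) :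
    (dg k : ℚ) * ∑ c, (sz c : ℚ) * (((A k c : ℚ) / D) * ((A k c : ℚ) / D)) = N := by
  have h0 := h k
  rw [← sum_fin] at h0
  have h1 := congrArg (fun z : ℤ => (z : ℚ)) h0
  push_cast at h1
  have hD' : (D : ℚ) ≠ 0 := by exact_mod_cast hD
  have h2 : ∑ c, (sz c : ℚ) * (((A k c : ℚ) / D) * ((A k c : ℚ) / D)) =
      (1 / (D * D)) * (∑ c, (sz c : ℚ) * ((A k c : ℚ) * (A k c : ℚ))) := by
    rw [Finset.mul_sum]
    exact Finset.sum_congr rfl fun c _ => by field_simp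
  rw [h2, mul_left_comm, h1]
  field_simp

/-- from the integer identity to the rational one -/
theorem sum_gen {n : ℕ} {H A : Fin n → ℤ} {D : ℤ} (hD : D ≠ 0) {dg N : ℕ} {X : ℤ}
    (h : (dg : ℤ) * ((List.finRange n).map fun c => H c * A c).sum = N * D * X) :
    (dg : ℚ) * ∑ c, (H c : ℚ) * ((A c : ℚ) / D) = N * (X : ℚ) := by
  rw [← sum_fin] at h
  have h1 := congrArg (fun z : ℤ => (z : ℚ)) h
  push_cast at h1
  have hD' : (D : ℚ) ≠ 0 := by exact_mod_cast hD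
  have h2 : ∑ c, (H c : ℚ) * ((A c : ℚ) / D) = (1 / D) * (∑ c, (H c : ℚ) * (A c : ℚ)) := by
    rw [Finset.mul_sum]
    exact Finset.sum_congr rfl fun c _ => by ring
  rw [h2, mul_left_comm, h1]
  field_simp

/-! ### `N1` -/

def szN1L : List ℕ := [1, 81, 648, 81, 540, 648, 1, 240]

/-- `e = 1`, word `[6]` -/
def KN11L : List (List ℕ) := [
  [0, 1, 0, 0, 0, 0, 0, 0],
  [1, 18, 32, 10, 20, 0, 0, 0],
  [0, 32, 216, 0, 160, 160, 0, 80],
  [0, 10, 0, 18, 20, 32, 1, 0],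
  [0, 20, 160, 20, 180, 160, 0, 0],
  [0, 0, 160, 32, 160, 216, 0, 80],
  [0, 0, 0, 1, 0, 0, 0, 0],
  [0, 0, 80, 0, 0, 80, 0, 80]]

/-- `e = 2`, word `[6, 5, 7, 6]` -/
def KN12L : List (List ℕ) := [
  [0, 0, 1, 0, 0, 0, 0, 0],
  [0, 4, 27, 0, 20, 20, 0, 10],
  [1, 27, 190, 20, 160, 180, 0, 70],
  [0, 0, 20, 4, 20, 27, 0, 10],
  [0, 20, 160, 20, 120, 160, 0, 60],
  [0, 20, 180, 27, 160, 190, 1, 70],
  [0, 0, 0, 0, 0, 1, 0, 0],
  [0, 10, 70, 10, 60, 70, 0, 20]]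

/-- the functions, multiplied by `540`; degrees 1, 35, 84, 300, 448, 560, 700, 112 -/
def AN1L : List (List ℤ) := [
  [540, 540, 540, 540, 540, 540, 540, 540],
  [540, 220, -20, 220, 60, -20, 540, -180],
  [540, 140, -10, 140, -60, -10, 540, 90],
  [540, -20, -20, -20, 36, -20, 540, 36],
  [540, -60, 15, 60, 0, -15, -540, 0],
  [540, 20, -20, -20, 0, 20, -540, 0],
  [540, -20, 10, -20, -12, 10, 540, -18],
  [540, 140, 40, -140, 0, -40, -540, 0]]

def dgN1L : List ℕ := [1, 35, 84, 300, 448, 560, 700, 112]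

/-- the sizes -/
def szN1 (c : Fin 8) : ℕ := szN1L.getD c 0

/-- the table for `e = 1` -/
def KN11 (c x : Fin 8) : ℕ := (KN11L.getD c []).getD x 0

/-- the table for `e = 2` -/
def KN12 (c x : Fin 8) : ℕ := (KN12L.getD c []).getD x 0

def AN1 (k c : Fin 8) : ℤ := (AN1L.getD k []).getD c 0

/-- the degrees -/
def dgN1 (k : Fin 8) : ℕ := dgN1L.getD k 0

/-- the spherical functions -/
def avN1 (k c : Fin 8) : ℚ := (AN1 k c : ℚ) / 540

/-- **The spherical functions of `N1`.** -/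
theorem solveN1 (a : Fin 8 → ℂ) (h0 : a 0 = 1)
    (h1 : ∀ c, ∑ x, (KN11 c x : ℂ) * a x = (szN1 c : ℂ) * a 1 * a c)
    (h2 : ∀ c, ∑ x, (KN12 c x : ℂ) * a x = (szN1 c : ℂ) * a 2 * a c) :
    ∃ k : Fin 8, ∀ c, a c = (avN1 k c : ℚ) := by
  have hZ' : ∀ c x : Fin 8, ((List.finRange 8).map fun k => AN1 k c * (((dgN1 k : ℤ) * AN1 k x) * szN1 x)).sum =
      if c = x then 653184000 else 0 := by decide +kernel
  have hK' : ∀ k x : Fin 8, 540 * ((List.finRange 8).map fun c => ((dgN1 k : ℤ) * AN1 k c) *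
      ((KN11 c x + KN12 c x : ℕ) : ℤ)).sum =
      (AN1 k 1 + AN1 k 2) * (szN1 x * ((dgN1 k : ℤ) * AN1 k x)) := by decide +kernel
  have hA0 : ∀ k, AN1 k 0 = 540 := by decide +kernel
  have hν : Function.Injective fun k => AN1 k 1 + AN1 k 2 := by decide +kernel
  obtain ⟨k, hk⟩ := solve_gen (K := fun c x => KN11 c x + KN12 c x) (M := fun k x => (dgN1 k : ℤ) * AN1 k x)
    (D := 540) (N := 653184000) (by norm_num) (by norm_num) (fun c x => by rw [sum_fin]; exact hZ' c x)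
    (fun k x => by rw [sum_fin]; exact hK' k x) hA0 hν h0 (two h1 h2)
  refine ⟨k, fun c => ?_⟩
  rw [hk c, avN1]
  push_cast
  rfl

/-- the degrees from the functions -/
theorem dgN1_spec (k : Fin 8) : (dgN1 k : ℚ) * ∑ c, (szN1 c : ℚ) * (avN1 k c * avN1 k c) = 2240 := by
  have h := spec_gen (sz := szN1) (A := AN1) (D := 540) (by norm_num) (dg := dgN1) (N := 2240) (by decide +kernel) k
  unfold avN1
  exact_mod_cast h

/-! ### `N0` -/

def szN0L : List ℕ := [1, 81, 1, 81, 1296, 270, 270, 240]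

/-- `e = 1`, word `[6]` -/
def KN01L : List (List ℕ) := [
  [0, 1, 0, 0, 0, 0, 0, 0],
  [1, 16, 0, 12, 32, 0, 20, 0],
  [0, 0, 0, 1, 0, 0, 0, 0],
  [0, 12, 1, 16, 32, 20, 0, 0],
  [0, 32, 0, 32, 752, 160, 160, 160],
  [0, 0, 0, 20, 160, 80, 10, 0],
  [0, 20, 0, 0, 160, 10, 80, 0],
  [0, 0, 0, 0, 160, 0, 0, 80]]

/-- `e = 4`, word `[6, 5, 7, 6]` -/
def KN02L : List (List ℕ) := [
  [0, 0, 0, 0, 1, 0, 0, 0],
  [0, 2, 0, 2, 47, 10, 10, 10],
  [0, 0, 0, 0, 1, 0, 0, 0],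
  [0, 2, 0, 2, 47, 10, 10, 10],
  [1, 47, 1, 47, 740, 160, 160, 140],
  [0, 10, 0, 10, 160, 30, 30, 30],
  [0, 10, 0, 10, 160, 30, 30, 30],
  [0, 10, 0, 10, 140, 30, 30, 20]]

/-- the functions, multiplied by `810`; degrees 1, 35, 84, 300, 700, 28, 525, 567 -/
def AN0L : List (List ℤ) := [
  [810, 810, 810, 810, 810, 810, 810, 810],
  [810, 330, 810, 330, -30, 90, 90, -270],
  [810, 210, 810, 210, -15, -90, -90, 135],
  [810, -30, 810, -30, -30, 54, 54, 54],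
  [810, -30, 810, -30, 15, -18, -18, -27],
  [810, 270, -810, -270, 0, -270, 270, 0],
  [810, -90, -810, 90, 0, -18, 18, 0],
  [810, 70, -810, -70, 0, 30, -30, 0]]

def dgN0L : List ℕ := [1, 35, 84, 300, 700, 28, 525, 567]

/-- the sizes -/
def szN0 (c : Fin 8) : ℕ := szN0L.getD c 0

/-- the table for `e = 1` -/
def KN01 (c x : Fin 8) : ℕ := (KN01L.getD c []).getD x 0

/-- the table for `e = 4` -/
def KN02 (c x : Fin 8) : ℕ := (KN02L.getD c []).getD x 0

def AN0 (k c : Fin 8) : ℤ := (AN0L.getD k []).getD c 0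

/-- the degrees -/
def dgN0 (k : Fin 8) : ℕ := dgN0L.getD k 0

/-- the spherical functions -/
def avN0 (k c : Fin 8) : ℚ := (AN0 k c : ℚ) / 810

/-- **The spherical functions of `N0`.** -/
theorem solveN0 (a : Fin 8 → ℂ) (h0 : a 0 = 1)
    (h1 : ∀ c, ∑ x, (KN01 c x : ℂ) * a x = (szN0 c : ℂ) * a 1 * a c)
    (h2 : ∀ c, ∑ x, (KN02 c x : ℂ) * a x = (szN0 c : ℂ) * a 4 * a c) :
    ∃ k : Fin 8, ∀ c, a c = (avN0 k c : ℚ) := by
  have hZ' : ∀ c x : Fin 8, ((List.finRange 8).map fun k => AN0 k c * (((dgN0 k : ℤ) * AN0 k x) * szN0 x)).sum =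
      if c = x then 1469664000 else 0 := by decide +kernel
  have hK' : ∀ k x : Fin 8, 810 * ((List.finRange 8).map fun c => ((dgN0 k : ℤ) * AN0 k c) *
      ((KN01 c x + KN02 c x : ℕ) : ℤ)).sum =
      (AN0 k 1 + AN0 k 4) * (szN0 x * ((dgN0 k : ℤ) * AN0 k x)) := by decide +kernel
  have hA0 : ∀ k, AN0 k 0 = 810 := by decide +kernel
  have hν : Function.Injective fun k => AN0 k 1 + AN0 k 4 := by decide +kernel
  obtain ⟨k, hk⟩ := solve_gen (K := fun c x => KN01 c x + KN02 c x) (M := fun k x => (dgN0 k : ℤ) * AN0 k x)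
    (D := 810) (N := 1469664000) (by norm_num) (by norm_num) (fun c x => by rw [sum_fin]; exact hZ' c x)
    (fun k x => by rw [sum_fin]; exact hK' k x) hA0 hν h0 (two h1 h2)
  refine ⟨k, fun c => ?_⟩
  rw [hk c, avN0]
  push_cast
  rfl

/-- the degrees from the functions -/
theorem dgN0_spec (k : Fin 8) : (dgN0 k : ℚ) * ∑ c, (szN0 c : ℚ) * (avN0 k c * avN0 k c) = 2240 := by
  have h := spec_gen (sz := szN0) (A := AN0) (D := 810) (by norm_num) (dg := dgN0) (N := 2240) (by decide +kernel) k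
  unfold avN0
  exact_mod_cast h

/-! ### `N2` -/

def szN2L : List ℕ := [1, 81, 1, 81, 1296, 540, 240]

/-- `e = 1`, word `[6]` -/
def KN21L : List (List ℕ) := [
  [0, 1, 0, 0, 0, 0, 0],
  [1, 26, 0, 2, 32, 20, 0],
  [0, 0, 0, 1, 0, 0, 0],
  [0, 2, 1, 26, 32, 20, 0],
  [0, 32, 0, 32, 752, 320, 160],
  [0, 20, 0, 20, 320, 180, 0],
  [0, 0, 0, 0, 160, 0, 80]]

/-- `e = 4`, word `[6, 5, 7, 6]` -/
def KN22L : List (List ℕ) := [
  [0, 0, 0, 0, 1, 0, 0],
  [0, 2, 0, 2, 47, 20, 10],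
  [0, 0, 0, 0, 1, 0, 0],
  [0, 2, 0, 2, 47, 20, 10],
  [1, 47, 1, 47, 740, 320, 140],
  [0, 20, 0, 20, 320, 120, 60],
  [0, 10, 0, 10, 140, 60, 20]]

/-- the functions, multiplied by `270`; degrees 1, 35, 84, 300, 700, 1008, 112 -/
def AN2L : List (List ℤ) := [
  [270, 270, 270, 270, 270, 270, 270],
  [270, 110, 270, 110, -10, 30, -90],
  [270, 70, 270, 70, -5, -30, 45],
  [270, -10, 270, -10, -10, 18, 18],
  [270, -10, 270, -10, 5, -6, -9],
  [270, -10, -270, 10, 0, 0, 0],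
  [270, 90, -270, -90, 0, 0, 0]]

def dgN2L : List ℕ := [1, 35, 84, 300, 700, 1008, 112]

/-- the sizes -/
def szN2 (c : Fin 7) : ℕ := szN2L.getD c 0

/-- the table for `e = 1` -/
def KN21 (c x : Fin 7) : ℕ := (KN21L.getD c []).getD x 0

/-- the table for `e = 4` -/
def KN22 (c x : Fin 7) : ℕ := (KN22L.getD c []).getD x 0

def AN2 (k c : Fin 7) : ℤ := (AN2L.getD k []).getD c 0

/-- the degrees -/
def dgN2 (k : Fin 7) : ℕ := dgN2L.getD k 0

/-- the spherical functions -/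
def avN2 (k c : Fin 7) : ℚ := (AN2 k c : ℚ) / 270

/-- **The spherical functions of `N2`.** -/
theorem solveN2 (a : Fin 7 → ℂ) (h0 : a 0 = 1)
    (h1 : ∀ c, ∑ x, (KN21 c x : ℂ) * a x = (szN2 c : ℂ) * a 1 * a c)
    (h2 : ∀ c, ∑ x, (KN22 c x : ℂ) * a x = (szN2 c : ℂ) * a 4 * a c) :
    ∃ k : Fin 7, ∀ c, a c = (avN2 k c : ℚ) := by
  have hZ' : ∀ c x : Fin 7, ((List.finRange 7).map fun k => AN2 k c * (((dgN2 k : ℤ) * AN2 k x) * szN2 x)).sum =
      if c = x then 163296000 else 0 := by decide +kernel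
  have hK' : ∀ k x : Fin 7, 270 * ((List.finRange 7).map fun c => ((dgN2 k : ℤ) * AN2 k c) *
      ((KN21 c x + KN22 c x : ℕ) : ℤ)).sum =
      (AN2 k 1 + AN2 k 4) * (szN2 x * ((dgN2 k : ℤ) * AN2 k x)) := by decide +kernel
  have hA0 : ∀ k, AN2 k 0 = 270 := by decide +kernel
  have hν : Function.Injective fun k => AN2 k 1 + AN2 k 4 := by decide +kernel
  obtain ⟨k, hk⟩ := solve_gen (K := fun c x => KN21 c x + KN22 c x) (M := fun k x => (dgN2 k : ℤ) * AN2 k x)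
    (D := 270) (N := 163296000) (by norm_num) (by norm_num) (fun c x => by rw [sum_fin]; exact hZ' c x)
    (fun k x => by rw [sum_fin]; exact hK' k x) hA0 hν h0 (two h1 h2)
  refine ⟨k, fun c => ?_⟩
  rw [hk c, avN2]
  push_cast
  rfl

/-- the degrees from the functions -/
theorem dgN2_spec (k : Fin 7) : (dgN2 k : ℚ) * ∑ c, (szN2 c : ℚ) * (avN2 k c * avN2 k c) = 2240 := by
  have h := spec_gen (sz := szN2) (A := AN2) (D := 270) (by norm_num) (dg := dgN2) (N := 2240) (by decide +kernel) k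
  unfold avN2
  exact_mod_cast h

end Cfsg.Agent.H416.LB.X
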